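import Cfsg.Agent.ISP.Defs
import Cfsg.Agent.S3099
import Cfsg.Agent.KSG.PSL2
import Cfsg.Agent.Class.SL2Sylow

set_option autoImplicit false

namespace Cfsg.Agent.ISP

theorem r1_mono {q a : ℕ} (h : q ≤ a) : q ^ 3 + a ≤ a ^ 3 + q := by
  obtain ⟨d, rfl⟩ := Nat.exists_eq_add_of_le h
  have := Nat.le_self_pow (n := 3) (by norm_num) d
  nlinarith [Nat.zero_le (q * q * d), Nat.zero_le (q * d * d)]

theorem r1_tab : ∀ m ∈ spoL, ∃ a ∈ ([25, 57, 96, 273, 788, 70, 106, 464, 5577965, 2025957, 43901, 9971, 50543, 2014801, 135909026, 445, 1215, 2005, 6633, 9643, 9731, 81736, 469557, 566177, 202547114678, 1173501297218634645, 330] : List ℕ),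
    a ^ 3 < 2 * m + a ∧ 2 * m + (a + 1) < (a + 1) ^ 3 := by decide +kernel

theorem r1_num {m q : ℕ} (h : Spo m) (e : 2 * m + q = q ^ 3) : False := by
  obtain ⟨a, -, h1, h2⟩ := r1_tab m h
  rcases le_or_gt q a with k | k
  · have := r1_mono k; omega
  · have := r1_mono (show a + 1 ≤ q from k); omega

theorem r1_sub {X : Type*} [Group X] (h1 : Cfsg.PRankLE 2 1 X) (Y : Subgroup X) : Cfsg.PRankLE 2 1 Y :=
  fun A hA h => by
    have := h1 (A.map Y.subtype) inferInstance (by
      rintro _ ⟨a, ha, rfl⟩
      rw [← map_pow, h a ha, map_one])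
    rwa [Subgroup.card_map_of_injective Y.subtype_injective] at this

open Subgroup in
theorem r1_main {T : Type*} [Group T] (hs : IsSimpleGroup T) (hT : Spo (Nat.card T)) (n : ℕ) :
    ∀ (Y : Type*) [Group Y] [Finite Y], Nat.card Y = n → Cfsg.PRankLE 2 1 Y → ∀ f : Y →* T,
      Function.Surjective f → False := by
  have ge := hT.ge
  have h8 := hT.even
  have : Finite T := Nat.finite_of_card_ne_zero (by omega)
  have nc : ¬ ∀ a b : T, a * b = b * a := fun h => by
    let _ : CommGroup T := { (inferInstance : Group T) with mul_comm := h }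
    have p : (Nat.card T).Prime := IsSimpleGroup.prime_card
    have := (Nat.prime_dvd_prime_iff_eq Nat.prime_two p).1 (Dvd.dvd.trans (by norm_num) h8)
    omega
  have hc : commutator T = ⊤ := (IsSimpleGroup.eq_bot_or_eq_top_of_normal _ inferInstance).resolve_left
    fun e => nc fun a b => commutatorElement_eq_one_iff_mul_comm.1 (mem_bot.1
      (e ▸ commutator_mem_commutator (mem_top a) (mem_top b)))
  have hz : center T = ⊥ := (IsSimpleGroup.eq_bot_or_eq_top_of_normal _ inferInstance).resolve_right
    fun e => nc fun a b => mem_center_iff.1 (e ▸ mem_top b) a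
  induction n using Nat.strong_induction_on with
  | _ n ih =>
  intro Y _ _ hn h1 f hf
  by_cases hP : commutator Y = ⊤
  swap
  · refine ih _ ?_ (commutator Y) rfl (r1_sub h1 _) _ (Class.Dickson.surjective_comp_commutator f hf hc)
    rw [← hn]
    exact lt_of_le_of_ne (card_le_card_group _) fun e => hP (eq_top_of_card_eq _ e)
  have ho : Cfsg.oddCore Y ≤ f.ker := (Subgroup.map_eq_bot_iff _).1
    ((IsSimpleGroup.eq_bot_or_eq_top_of_normal _ (Normal.map inferInstance f hf)).resolve_right fun e => by
      have := Grp.map_pPrimeCore_coprime 2 f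
      rw [e, card_top] at this
      have := Nat.coprime_two_right.1 this
      rw [Nat.odd_iff] at this
      omega)
  have hg := QuotientGroup.lift_surjective_of_surjective _ f hf ho
  rcases S3099.result ⟨hP⟩ h1 (even_iff_two_dvd.2 ((Dvd.dvd.trans (by norm_num) h8).trans
    (card_dvd_of_surjective f hf))) with ⟨F, _, _, o, h3, ⟨e⟩⟩ | ⟨c2, ⟨e⟩, -⟩
  · have hg' := hg.comp e.symm.surjective
    let g := (QuotientGroup.lift _ f ho).comp e.symm.toMonoidHom
    have hk : center _ ≤ g.ker := fun z hz' => mem_bot.1 (hz ▸ mem_center_iff.2 fun t => by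
      obtain ⟨y, rfl⟩ := (show Function.Surjective g from hg') t
      rw [← map_mul, ← map_mul, mem_center_iff.1 hz' y])
    have s2 := QuotientGroup.lift_surjective_of_surjective _ g hg' hk
    have sim : IsSimpleGroup (Matrix.ProjectiveSpecialLinearGroup (Fin 2) F) :=
      Matrix.ProjectiveSpecialLinearGroup.rank_two_simple (by rw [Nat.card_eq_fintype_card]; omega)
    have inj : Function.Injective (QuotientGroup.lift _ g hk) := (MonoidHom.ker_eq_bot_iff _).1
      ((sim.eq_bot_or_eq_top_of_normal _ inferInstance).resolve_right fun k => nc fun a b => by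
        obtain ⟨x, rfl⟩ := s2 a
        rw [show QuotientGroup.lift _ g hk x = 1 from (k ▸ mem_top x : x ∈ MonoidHom.ker _), one_mul, mul_one])
    have c1 := Nat.card_eq_of_bijective _ ⟨inj, s2⟩
    have c2 := card_eq_card_quotient_mul_card_subgroup (center (Matrix.SpecialLinearGroup (Fin 2) F))
    rw [c1, KSG.M2.card_center_SL2, Class.card_SL2, Nat.card_eq_fintype_card (α := F)] at c2
    obtain ⟨k, hk'⟩ := o
    rw [show Nat.gcd 2 (Fintype.card F - 1) = 2 by rw [hk']; simp] at c2
    refine r1_num (q := Fintype.card F) hT ?_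
    rw [mul_comm 2, ← c2, Nat.mul_sub_one, Nat.sub_add_cancel (by nlinarith)]
    ring
  · have c1 := Nat.card_le_card_of_surjective _ hg
    have c3 := card_eq_card_quotient_mul_card_subgroup (center (Y ⧸ Cfsg.oddCore Y))
    rw [c2, Nat.card_congr e.toEquiv, nat_card_alternatingGroup, Nat.card_eq_fintype_card (α := Fin 7),
      Fintype.card_fin] at c3
    norm_num [Nat.factorial] at c3
    omega

/-- No simple group of sporadic order is a section of a finite group of 2-rank `≤ 1`.
Proof. Replace `Y` by a subgroup `Y₀ ≤ Y` minimal with `f Y₀ = T` (or the perfect residual): `Y₀` is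
perfect (`T` is perfect: simple, order `≥ 7920` and even, so not of prime order), of even order
(`Spo.even`), of 2-rank `≤ 1` (subgroup). `Cfsg.Agent.S3099.result`: `Y₀/O(Y₀) ≅ SL₂(q)` (`q` odd `> 3`) or a double
cover of `A₇` (order 5040). The image of `O(Y₀)` in `T` is normal of odd order, hence trivial, so `T` is
a quotient of `Y₀/O(Y₀)`. Order 5040 `< 7920` is impossible (`Spo.ge`). A proper normal subgroup of `SL₂(q)`
is central (`PSL₂(q)` simple, `SL₂(q)` perfect) so `|T| ∈ {q(q²-1), q(q²-1)/2}`; no number `m` of `spoL` has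
`m = q³ - q` or `2m = q³ - q` (monotonic in `q`: give for each `m` the `a` with
`a³ - a < m < (a+1)³ - (a+1)`). -/
theorem no_rank_one {X T : Type*} [Group X] [Finite X] [Group T] (h1 : Cfsg.PRankLE 2 1 X)
    (Y : Subgroup X) (f : Y →* T) (hf : Function.Surjective f) (hs : IsSimpleGroup T)
    (hT : Spo (Nat.card T)) : False := by
  exact r1_main hs hT _ Y rfl (r1_sub h1 Y) f hf

end Cfsg.Agent.ISP
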