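import Cfsg.Agent.ISP.Defs
import Cfsg.Agent.ISP.R1
import Cfsg.Agent.PLocal.SigCoprime

set_option autoImplicit false

namespace Cfsg.Agent.ISP

/-- If `P ≠ 1` is an `r`-subgroup (`r` an odd prime) and `G` has no element of order `2r`, then `N_G(P)`
has no four-subgroup: a four-group acting on `P ≠ 1` has an involution with nontrivial fixed points
(coprime action, `P = ⟨C_P(a)⟩`; or directly: if `a, b, ab` all invert an element of order `r`
of `Z(P)`, contradiction). -/
theorem rank_one_normalizer {G : Type*} [Group G] [Finite G] {r : ℕ} (hr : r.Prime) (h2 : r ≠ 2)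
    (hno : ¬ Om G (2 * r)) (P : Subgroup G) (hP : IsPGroup r P) (hP1 : P ≠ ⊥) :
    Cfsg.PRankLE 2 1 (Subgroup.normalizer (P : Set G)) := by
  intro A hA hA2
  have := Fact.mk hr
  have : Fact (Nat.Prime 2) := ⟨Nat.prime_two⟩
  by_contra! c
  obtain ⟨k, hk⟩ := IsPGroup.iff_card.1 (show IsPGroup 2 A from fun a => ⟨1, Subtype.ext (hA2 a a.2)⟩)
  obtain ⟨j, hj⟩ := IsPGroup.iff_card.1 hP
  obtain ⟨a, ha, a1, n⟩ := PLocal.Sig.exists_cent1_not_le (p := 2) (A := A.map (Subgroup.subtype _)) (X := P) (L := ⊥)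
    ⟨inferInstance, by
      rintro _ ⟨a, ha, rfl⟩
      exact congrArg Subtype.val (hA2 a ha)⟩ (by
      rw [Subgroup.card_map_of_injective (Subgroup.subtype_injective _), hk]
      exact Nat.pow_le_pow_right two_pos ((Nat.pow_lt_pow_iff_right one_lt_two).1 (hk ▸ c)))
    (Subgroup.map_subtype_le _) (fun d => h2 ((Nat.prime_dvd_prime_iff_eq Nat.prime_two hr).1
      (Nat.prime_two.dvd_of_dvd_pow (hj ▸ d))).symm) (mt le_bot_iff.1 hP1)
  obtain ⟨x, hx, x1⟩ := SetLike.not_le_iff_exists.1 n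
  obtain ⟨b, hb, rfl⟩ := ha
  have o2 : orderOf (b : G) = 2 := orderOf_eq_prime (congrArg Subtype.val (hA2 b hb)) a1
  obtain ⟨i, hi⟩ := IsPGroup.iff_orderOf.1 hP ⟨x, hx.1⟩
  rw [Subgroup.orderOf_mk] at hi
  have := Om.of_commute (show Commute (b : G) x from (Subgroup.mem_centralizer_singleton_iff.1 hx.2).symm) (by
    rw [o2, hi]
    exact ((Nat.coprime_primes Nat.prime_two hr).2 h2.symm).pow_right _)
  rw [o2, hi] at this
  refine hno (this.of_dvd (Nat.mul_dvd_mul_left 2 (dvd_pow_self r fun e => x1 ?_)))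
  rwa [e, pow_zero, orderOf_eq_one_iff] at hi

/-- Frattini: if `M ⊴ G`, `r ∣ |M|`, `r` odd prime, no element of order `2r`, then no simple group of
sporadic order is a section of `G / M`, in the form: `ψ : G ↠ B` with kernel `M`, `Y ≤ B`, `f : Y ↠ T`.
Proof: `P` Sylow `r` of `M`, `N = N_G(P)` maps onto `B`; apply `no_rank_one` to `X = N` and the
preimage of `Y` in `N`. -/
theorem not_dvd_ker_of_section {G B T : Type*} [Group G] [Finite G] [Group B] [Group T]
    (ψ : G →* B) (hψ : Function.Surjective ψ) {r : ℕ} (hr : r.Prime) (h2 : r ≠ 2)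
    (hno : ¬ Om G (2 * r)) (Y : Subgroup B) (f : Y →* T) (hf : Function.Surjective f)
    (hs : IsSimpleGroup T) (hT : Spo (Nat.card T)) : ¬ r ∣ Nat.card ψ.ker := by
  intro hd
  have := Fact.mk hr
  obtain ⟨P, hP⟩ := PLocal.Amb.exists_isSyl r ψ.ker
  have hs' : Function.Surjective (ψ.comp (Subgroup.normalizer (P : Set G)).subtype) := fun b => by
    obtain ⟨g, rfl⟩ := hψ b
    obtain ⟨n, hn, x, hx, rfl⟩ := hP.frattini (g := g) (Subgroup.normalizer_eq_top ψ.ker ▸ Subgroup.mem_top g)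
    exact ⟨⟨x, hx⟩, by rw [map_mul, MonoidHom.mem_ker.1 hn, one_mul]; rfl⟩
  exact no_rank_one (rank_one_normalizer hr h2 hno P hP.pgrp fun e => hP.eq_bot_iff.1 e hd) (Y.comap _)
    (f.comp (MonoidHom.subgroupComap _ Y)) (hf.comp (MonoidHom.subgroupComap_surjective_of_surjective _ Y hs')) hs hT

variable {G A : Type*} [Group G] [Finite G] [Group A] {φ : G →* A} {S : Subgroup A}

theorem Cf.not_dvd_ker (h : Cf φ S) {r : ℕ} (hr : r.Prime) (h2 : r ≠ 2) (hno : ¬ Om G (2 * r)) :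
    ¬ r ∣ Nat.card φ.ker :=
  not_dvd_ker_of_section φ h.surj hr h2 hno S (MonoidHom.id S) Function.surjective_id h.simp h.spo

end Cfsg.Agent.ISP
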