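import Cfsg.Agent.ISP.Defs
import Cfsg.Agent.ISP.C0a
import Cfsg.Agent.Solv.Frobenius

set_option autoImplicit false

namespace Cfsg.Agent.ISP

variable {G A : Type*} [Group G] [Finite G] [Group A] {φ : G →* A} {S : Subgroup A}

/-- Frattini for a Sylow `ℓ`-subgroup `L` of `S` (`A = S N_A(L)`): a Sylow `s`-subgroup `R₀` of `N_A(L)` acts
semiregularly on `L - 1` (no element of order `sℓ` in `A`), so `|R₀| ∣ ℓ^b - 1`; and the `s`-part of
`|A : S| = |N_A(L) : N_S(L)|` divides `|R₀|`. -/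
theorem Cf.pow_dvd_of_index (h : Cf φ S) {s l b c : ℕ} (hs : s.Prime) (hl : l.Prime) (hsl : s ≠ l)
    (hb : l ^ b ∣ Nat.card S) (hb' : ¬ l ^ (b + 1) ∣ Nat.card S) (hno : ¬ Om G (s * l))
    (hc : s ^ c ∣ S.index) : s ^ c ∣ l ^ b - 1 := by
  have := h.finite
  have := h.nor
  have := Fact.mk hs
  have := Fact.mk hl
  obtain ⟨P⟩ : Nonempty (Sylow l S) := inferInstance
  have hS0 : Nat.card S ≠ 0 := Nat.card_pos.ne'
  have hfac : (Nat.card S).factorization l = b := by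
    have h1 := (hl.pow_dvd_iff_le_factorization hS0).1 hb
    have h2 : ¬ b + 1 ≤ (Nat.card S).factorization l := fun e =>
      hb' ((hl.pow_dvd_iff_le_factorization hS0).2 e)
    omega
  set L : Subgroup A := (P : Subgroup S).map S.subtype with hL
  have hLc : Nat.card L = l ^ b := by
    rw [hL, Subgroup.card_map_of_injective S.subtype_injective, P.card_eq_multiplicity, hfac]
  set N : Subgroup A := Subgroup.normalizer (L : Set A) with hN
  have htop : N ⊔ S = ⊤ := Sylow.normalizer_sup_eq_top P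
  have hidx : S.index ∣ Nat.card N := by
    rw [← Subgroup.relIndex_top_right, ← htop, Subgroup.relIndex_sup_right]
    exact Subgroup.relIndex_dvd_card _ _
  obtain ⟨R, hR⟩ := Sylow.exists_subgroup_card_pow_prime (G := N) s (hc.trans hidx)
  have hRc : Nat.card (R.map N.subtype) = s ^ c := by
    rw [Subgroup.card_map_of_injective N.subtype_injective, hR]
  rw [← hRc, ← hLc]
  refine Cfsg.Agent.Solv.Frob.card_dvd_card_sub_one (Subgroup.map_subtype_le R) ?_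
  intro a ha ha1
  rw [eq_bot_iff]
  rintro x ⟨hxL, hxc⟩
  rw [Subgroup.mem_bot]
  by_contra hx1
  apply hno
  have hcomm : Commute a x := (Subgroup.mem_centralizer_singleton_iff.1 hxc).symm
  have hoa : orderOf a ∣ s ^ c := hRc ▸ Subgroup.orderOf_dvd_natCard _ ha
  have hox : orderOf x ∣ l ^ b := hLc ▸ Subgroup.orderOf_dvd_natCard _ hxL
  obtain ⟨i, -, hi⟩ := (Nat.dvd_prime_pow hs).1 hoa
  obtain ⟨j, -, hj⟩ := (Nat.dvd_prime_pow hl).1 hox
  have hi0 : i ≠ 0 := by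
    rintro rfl
    exact ha1 (orderOf_eq_one_iff.1 (by simpa using hi))
  have hj0 : j ≠ 0 := by
    rintro rfl
    exact hx1 (orderOf_eq_one_iff.1 (by simpa using hj))
  have hcop : (orderOf a).Coprime (orderOf x) := by
    rw [hi, hj]
    exact Nat.Coprime.pow _ _ ((Nat.coprime_primes hs hl).2 hsl)
  refine h.omA ((Om.of_commute hcomm hcop).of_dvd ?_)
  rw [hi, hj]
  exact mul_dvd_mul (dvd_pow_self _ hi0) (dvd_pow_self _ hj0)

/-- (C5) -/
theorem Cf.dvd_of_index (h : Cf φ S) {s l b : ℕ} (hs : s.Prime) (hl : l.Prime) (hsl : s ≠ l)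
    (hb : l ^ b ∣ Nat.card S) (hb' : ¬ l ^ (b + 1) ∣ Nat.card S) (hno : ¬ Om G (s * l))
    (hc : s ∣ S.index) : s ∣ l ^ b - 1 := by
  simpa using h.pow_dvd_of_index (c := 1) hs hl hsl hb hb' hno (by simpa using hc)

/-- (C1) `r` odd, no element of order `2r`: the `r`-part of `|G|` divides `|S| (2^a - 1)`
(`Cf.not_dvd_ker`, `Cf.card_eq'`, `pow_dvd_of_index` with `ℓ = 2`). -/
theorem Cf.pow_dvd (h : Cf φ S) {r a c : ℕ} (hr : r.Prime) (h2 : r ≠ 2) (hno : ¬ Om G (2 * r))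
    (ha : 2 ^ a ∣ Nat.card S) (ha' : ¬ 2 ^ (a + 1) ∣ Nat.card S) (hc : r ^ c ∣ Nat.card G) :
    r ^ c ∣ Nat.card S * (2 ^ a - 1) := by
  have := h.finite
  have hK := h.not_dvd_ker hr h2 hno
  rw [h.card_eq'] at hc
  have h1 : r ^ c ∣ Nat.card S * S.index :=
    (Nat.Coprime.pow_left c ((Nat.Prime.coprime_iff_not_dvd hr).2 hK)).dvd_of_dvd_mul_left hc
  have hI0 : S.index ≠ 0 := Subgroup.index_ne_zero_of_finite
  obtain ⟨e, m, hm, hem⟩ := Nat.exists_eq_pow_mul_and_not_dvd hI0 r hr.ne_one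
  have h3 : r ^ e ∣ 2 ^ a - 1 :=
    h.pow_dvd_of_index hr Nat.prime_two h2 ha ha' (by rwa [mul_comm]) ⟨m, hem⟩
  rw [hem, ← mul_assoc] at h1
  have h4 : r ^ c ∣ Nat.card S * r ^ e :=
    (Nat.Coprime.pow_left c ((Nat.Prime.coprime_iff_not_dvd hr).2 hm)).dvd_of_dvd_mul_right h1
  exact h4.trans (mul_dvd_mul_left _ h3)

/-- (C6) An element of order `m` prime to `|K|` and `|A : S|` maps to an element of order `m` of `S`. -/
theorem Cf.om_sub (h : Cf φ S) {m : ℕ} (hK : m.Coprime (Nat.card φ.ker)) (hI : m.Coprime S.index)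
    (hm : Om G m) : Om S m := by
  have := h.finite
  have := h.nor
  obtain ⟨g, hg⟩ := hm
  have h1 : orderOf (φ g) ∣ m := hg ▸ orderOf_map_dvd φ g
  have h2 : g ^ orderOf (φ g) ∈ φ.ker := by
    rw [MonoidHom.mem_ker, map_pow, pow_orderOf_eq_one]
  have h3 : orderOf (g ^ orderOf (φ g)) ∣ Nat.card φ.ker := Subgroup.orderOf_dvd_natCard _ h2
  have h4 : orderOf (g ^ orderOf (φ g)) ∣ m := hg ▸ orderOf_pow_dvd _
  have h5 : g ^ orderOf (φ g) = 1 :=
    orderOf_eq_one_iff.1 (Nat.eq_one_of_dvd_coprimes hK h4 h3)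
  have h6 : orderOf (φ g) = m :=
    Nat.dvd_antisymm h1 (hg ▸ orderOf_dvd_of_pow_eq_one h5)
  refine ⟨⟨φ g ^ S.index, S.pow_index_mem _⟩, ?_⟩
  rw [Subgroup.orderOf_mk, Nat.Coprime.orderOf_pow (by rwa [h6]), h6]

end Cfsg.Agent.ISP
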