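import Cfsg.Agent.ISP.Defs
import Cfsg.Agent.ISP.C1
import Cfsg.Agent.Perm.FpfGroup

set_option autoImplicit false

namespace Cfsg.Agent.ISP

variable {G A : Type*} [Group G] [Finite G] [Group A] {φ : G →* A} {S : Subgroup A}

/-- (C3) `s ∣ |K|`, `t ≠ s` an odd prime, no element of order `st`: with `P` Sylow `s` in `K`, `N_G(P) ↠ A`
(Frattini), a Sylow `t`-subgroup of `N_G(P)` acts semiregularly on `P - 1`, so it has no subgroup `t × t`
(coprime action of a noncyclic abelian group) and is cyclic (`t` odd); its order is divisible by the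
`t`-part of `|A|`. -/
theorem Cf.om_pow_of_ker (h : Cf φ S) {s t b : ℕ} (hs : s.Prime) (ht : t.Prime) (h2 : t ≠ 2)
    (hst : s ≠ t) (hK : s ∣ Nat.card φ.ker) (hno : ¬ Om G (s * t)) (hb : t ^ b ∣ Nat.card A) :
    Om G (t ^ b) := by
  have := Fact.mk hs
  have := Fact.mk ht
  have := h.finite
  obtain ⟨P⟩ : Nonempty (Sylow s φ.ker) := inferInstance
  let Q : Subgroup G := (P : Subgroup φ.ker).map φ.ker.subtype
  let N : Subgroup G := Subgroup.normalizer (Q : Set G)
  have hfr : N ⊔ φ.ker = ⊤ := Sylow.normalizer_sup_eq_top P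
  have hsurj : Function.Surjective (φ.comp N.subtype) := by
    intro a
    obtain ⟨g, rfl⟩ := h.surj a
    have : g ∈ N ⊔ φ.ker := hfr ▸ Subgroup.mem_top g
    rw [← SetLike.mem_coe, Subgroup.mul_normal] at this
    obtain ⟨n, hn, k, hk, rfl⟩ := this
    exact ⟨⟨n, hn⟩, by simp [MonoidHom.mem_ker.1 hk]⟩
  obtain ⟨T, hT⟩ := Sylow.exists_subgroup_card_pow_prime t
    (hb.trans (Subgroup.card_dvd_of_surjective _ hsurj))
  have hTp : IsPGroup t T := IsPGroup.of_card hT
  have hQp : IsPGroup s Q := P.isPGroup'.map _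
  have : Nontrivial Q := (Subgroup.nontrivial_iff_ne_bot _).2 fun e =>
    P.ne_bot_of_dvd_card hK ((Subgroup.map_eq_bot_iff_of_injective _ φ.ker.subtype_injective).1 e)
  have fpf : FGS.FrobCompl.IsFpf (Q.normalizerMonoidHom.comp T.subtype) := by
    intro a v e
    by_contra! hc
    have c : Commute (v : G) ((a : N) : G) := by
      have : ((a : N) : G) * v * ((a : N) : G)⁻¹ = v := congrArg Subtype.val e
      exact (mul_inv_eq_iff_eq_mul.1 this).symm
    obtain ⟨i, hi⟩ := IsPGroup.iff_orderOf.1 hQp v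
    obtain ⟨j, hj⟩ := IsPGroup.iff_orderOf.1 hTp a
    have i0 : i ≠ 0 := by rintro rfl; exact hc.2 (by simpa using hi)
    have j0 : j ≠ 0 := by rintro rfl; exact hc.1 (by simpa using hj)
    have o := Om.of_commute c
    rw [Subgroup.orderOf_coe, Subgroup.orderOf_coe, Subgroup.orderOf_coe, hi, hj] at o
    exact hno ((o (Nat.coprime_pow_primes _ _ hs ht hst)).of_dvd
      (mul_dvd_mul (dvd_pow_self _ i0) (dvd_pow_self _ j0)))
  have : IsCyclic T := by
    rcases subsingleton_or_nontrivial T with h1 | h1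
    · infer_instance
    · exact ((Perm.Fpf.AbCyc.of_occurs (FGS.FrobCompl.occurs_of_isFpf _ fpf)).isCyclic_or
        hTp).resolve_right fun e => h2 e.1
  obtain ⟨g, hg⟩ := IsCyclic.exists_ofOrder_eq_natCard (α := T)
  exact Om.of_sub N (Om.of_sub T ⟨g, hg.trans hT⟩)

/-- Tool C. -/
theorem Cf.toolC (h : Cf φ S) {s t b : ℕ} (hs : s.Prime) (ht : t.Prime) (h2 : t ≠ 2)
    (hsG : Om G s) (hsS : ¬ s ∣ Nat.card S) (hb0 : 0 < b) (hb : t ^ b ∣ Nat.card S)
    (hb' : ¬ t ^ (b + 1) ∣ Nat.card S) (hno : ¬ Om G (s * t)) : Om G (t ^ b) ∨ s ∣ t ^ b - 1 := by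
  have hst : s ≠ t := fun e => hsS (e ▸ (dvd_pow_self t hb0.ne').trans hb)
  have := hsG.dvd_card
  rw [h.card_eq'] at this
  rcases (Nat.Prime.dvd_mul hs).1 this with h1 | h1
  · exact Or.inl (h.om_pow_of_ker hs ht h2 hst h1 hno (hb.trans (Subgroup.card_subgroup_dvd_card S)))
  · rcases (Nat.Prime.dvd_mul hs).1 h1 with h1 | h1
    · exact absurd h1 hsS
    · exact Or.inr (h.dvd_of_index hs ht hst hb hb' hno h1)

/-- A prime `s` of `G` not dividing `|S|`, nonadjacent to `ℓ` with `s ∤ ℓ^b - 1`, divides `|K|`. -/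
theorem Cf.dvd_ker (h : Cf φ S) {s l b : ℕ} (hs : s.Prime) (hl : l.Prime)
    (hsG : Om G s) (hsS : ¬ s ∣ Nat.card S) (hb0 : 0 < b) (hb : l ^ b ∣ Nat.card S)
    (hb' : ¬ l ^ (b + 1) ∣ Nat.card S) (hno : ¬ Om G (s * l)) (hd : ¬ s ∣ l ^ b - 1) :
    s ∣ Nat.card φ.ker := by
  have hst : s ≠ l := fun e => hsS (e ▸ (dvd_pow_self l hb0.ne').trans hb)
  have := hsG.dvd_card
  rw [h.card_eq'] at this
  rcases (Nat.Prime.dvd_mul hs).1 this with h1 | h1
  · exact h1
  · rcases (Nat.Prime.dvd_mul hs).1 h1 with h1 | h1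
    · exact absurd h1 hsS
    · exact absurd (h.dvd_of_index hs hl hst hb hb' hno h1) hd

end Cfsg.Agent.ISP
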