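import Cfsg.Agent.ISP.Defs
import Cfsg.Agent.PLocal.AmbSyl
import Cfsg.Agent.Solv.Wielandt


set_option autoImplicit false

namespace Cfsg.Agent.ISP

variable {G A : Type*} [Group G] [Finite G] [Group A] {φ : G →* A} {S : Subgroup A}

open Subgroup PLocal.Amb

theorem frob_om {r u : ℕ} [Fact r.Prime] (hu : u.Prime) (hru : r ≠ u) {R : Subgroup G}
    (hR : IsPGroup r R) {w e : G} (hw : w ∈ R) (h1 : w ≠ 1) (he : orderOf e = u)
    (hc : Commute w e) : Om G (r * u) := by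
  obtain ⟨k, hk⟩ := IsPGroup.iff_orderOf.1 hR ⟨w, hw⟩
  rw [orderOf_mk] at hk
  have k0 : k ≠ 0 := by
    rintro rfl
    exact h1 (orderOf_eq_one_iff.1 (hk.trans (pow_zero r)))
  have := Om.of_commute hc (by
    rw [hk, he]
    exact ((Nat.coprime_primes Fact.out hu).2 hru).pow_left k)
  rw [hk, he] at this
  exact this.of_dvd (Nat.mul_dvd_mul_right (dvd_pow_self r k0) u)

theorem frob_pow {g : G} {u : ℕ} (hd : u ∣ orderOf g) : ∃ k : ℕ, orderOf (g ^ k) = u := by
  obtain ⟨k, hk⟩ := hd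
  have hk0 : k ≠ 0 := fun e => (orderOf_pos g).ne' (by rw [hk, e, mul_zero])
  exact ⟨k, by rw [orderOf_pow_of_dvd hk0 ⟨u, by rw [hk, mul_comm]⟩, hk,
    Nat.mul_div_cancel _ (Nat.pos_of_ne_zero hk0)]⟩

theorem frob_mul_pow {T : Subgroup A} {τ a : A} (h1 : τ ∈ T) (h2 : a ∈ normalizer (T : Set A)) :
    ∀ m : ℕ, (τ * a) ^ m * (a ^ m)⁻¹ ∈ T
  | 0 => by simp
  | m + 1 => by
    have := T.mul_mem h1 ((mem_normalizer_iff.1 h2 _).1 (frob_mul_pow h1 h2 m))
    convert this using 1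
    rw [pow_succ', pow_succ']
    group

/-- (Frobenius lemma) `s ∣ |K|`; `T ≠ 1` a `t`-subgroup of `S` normalised by `y ∈ S` of prime order `u`;
`s, t, u` distinct primes, `u ∤ |K|`, no elements of order `tu`, `su`. Contradiction.
Proof. `P` Sylow `s` in `K`, `N = N_G(P) ↠ A` (Frattini). `X` = preimage in `N` of `T⟨y⟩`, solvable (`K` is). `Y` a Hall
`{t,u}`-subgroup of `X` (or: Sylow `t`-subgroup `U` of the preimage `X₀` of `T`, Frattini `X = X₀ N_X(U)`, `u ∤ |X₀|`, take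
`y'` of order `u` in `N_X(U)`); `U ↠ T`, `y'` acts without fixed points on `U ≠ 1`. If `U` centralises `P`, the image
of `C_G(P) ⊴ N` in `A` is normal and meets `S` nontrivially, so contains `S`, so `u ∣ |C_G(P)|`: an element of order `su`.
Otherwise the Frobenius group `U⟨y'⟩` acts on `P` with `[P,U] ≠ 1`, `(|U|,|P|) = 1`, so `C_P(y') ≠ 1`
(search the library: Frobenius group acting, complement has fixed points): order `su`. -/
theorem Cf.frob (h : Cf φ S) {s t u : ℕ} (hs : s.Prime) (ht : t.Prime) (hu : u.Prime) (hst : s ≠ t)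
    (hsu : s ≠ u) (htu : t ≠ u) (hK : s ∣ Nat.card φ.ker) (huK : ¬ u ∣ Nat.card φ.ker)
    (T : Subgroup S) (hT : IsPGroup t T) (hT1 : T ≠ ⊥) (y : S) (hy : orderOf y = u)
    (hyT : y ∈ Subgroup.normalizer (T : Set S)) (h1 : ¬ Om G (t * u)) (h2 : ¬ Om G (s * u)) :
    False := by
  have := Fact.mk hs
  have := Fact.mk ht
  have := h.finite
  have := h.nor
  have := h.simp
  obtain ⟨P, hP⟩ := exists_isSyl s φ.ker
  have hN : ∀ a : A, ∃ n ∈ normalizer (P : Set G), φ n = a := fun a => by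
    obtain ⟨g, rfl⟩ := h.surj a
    obtain ⟨k, hk, x, hx, rfl⟩ := hP.frattini (g := g) (by rw [normalizer_eq_top]; trivial)
    exact ⟨x, hx, by rw [map_mul, show φ k = 1 from hk, one_mul]⟩
  obtain ⟨w, wP, w1⟩ : ∃ w ∈ P, w ≠ 1 := by
    by_contra! r
    exact hP.eq_bot_iff.1 (eq_bot_iff.2 r) hK
  set T' := T.map S.subtype with hT'
  have hTp : IsPGroup t T' := hT.map _
  have ha : (y : A) ∈ normalizer (T' : Set A) := le_normalizer_map _ ⟨y, hyT, rfl⟩
  have oa : orderOf (y : A) = u := by rw [orderOf_coe, hy]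
  set X := normalizer (P : Set G) ⊓ T'.comap φ with hX
  obtain ⟨U, hU⟩ := exists_isSyl t X
  have hXm : X.map φ = T' := le_antisymm (map_le_iff_le_comap.2 inf_le_right) fun τ hτ => by
    obtain ⟨n, hn, rfl⟩ := hN τ
    exact ⟨n, ⟨hn, hτ⟩, rfl⟩
  have hUm : T' = U.map φ := by
    have := hU.map φ
    rw [hXm] at this
    exact this.eq hTp this.le le_rfl
  obtain ⟨n0, hn0, e0⟩ := hN y
  obtain ⟨x, hx, n1, hn1, rfl⟩ := hU.frattini (g := n0) (inf_normalizer_le_normalizer_inf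
    ⟨le_normalizer hn0, le_normalizer_comap φ (by rw [mem_comap, e0]; exact ha)⟩)
  have n1P : n1 ∈ normalizer (P : Set G) := (Subgroup.mul_mem_cancel_left _ hx.1).1 hn0
  have hd : u ∣ orderOf n1 := by
    by_contra r
    have k1 := frob_mul_pow (T'.inv_mem (show φ x ∈ T' from hx.2)) ha (orderOf n1)
    rw [← e0, map_mul, inv_mul_cancel_left, ← map_pow, pow_orderOf_eq_one, map_one, one_mul,
      inv_mem_iff, ← map_mul, e0] at k1
    obtain ⟨k, hk⟩ := IsPGroup.iff_orderOf.1 hTp ⟨_, k1⟩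
    rw [orderOf_mk, ((hu.coprime_iff_not_dvd.2 r).symm |> fun c =>
      Nat.Coprime.orderOf_pow (y := (y : A)) (by rw [oa]; exact c.symm)), oa] at hk
    exact htu ((Nat.prime_dvd_prime_iff_eq hu ht).1 (hu.dvd_of_dvd_pow hk.dvd)).symm
  obtain ⟨k, hk⟩ := frob_pow hd
  have he : ∀ e ∈ zpowers (n1 ^ k), e ≠ 1 → orderOf e = u := fun e h1 h2 =>
    ((Nat.dvd_prime hu).1 (hk ▸ orderOf_dvd_of_mem_zpowers h1)).resolve_left
      (mt orderOf_eq_one_iff.1 h2)
  have hEU : zpowers (n1 ^ k) ≤ normalizer (U : Set G) := zpowers_le.2 (pow_mem hn1 k)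
  have := hU.pgrp.isNilpotent
  have := hP.pgrp.isNilpotent
  have hF := Solv.Wielandt.frobenius_fixed_formula U (zpowers (n1 ^ k)) hEU inferInstance
    (fun e e1 e2 v v1 c => by
      by_contra r
      exact h1 (frob_om hu htu hU.pgrp v1 r (he e e1 e2) c.symm))
    P (sup_le (hU.le.trans inf_le_left) (zpowers_le.2 (pow_mem n1P k))) inferInstance (by
      obtain ⟨i, hi⟩ := hP.pgrp.exists_card_eq
      obtain ⟨j, hj⟩ := hU.pgrp.exists_card_eq
      rw [sup_comm]
      refine Nat.Coprime.coprime_dvd_right (Grp.card_sup_dvd_of_le_normalizer hEU) ?_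
      rw [hi, hj, Nat.card_zpowers, hk]
      exact (((Nat.coprime_primes hs hu).2 hsu).mul_right
        (((Nat.coprime_primes hs ht).2 hst).pow_right j)).pow_left i)
  have hC : P ⊓ centralizer (zpowers (n1 ^ k) : Set G) = ⊥ := eq_bot_iff.2 fun v hv => by
    by_contra r
    exact h2 (frob_om hu hsu hP.pgrp hv.1 r hk (hv.2 _ (mem_zpowers _)).symm)
  rw [hC, card_bot, one_pow, one_mul] at hF
  have hPU : P ⊓ centralizer (U : Set G) = P := eq_of_le_of_card_ge inf_le_left (by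
    rw [← hF]
    exact Nat.le_mul_of_pos_left _ (pow_pos Nat.card_pos _))
  have hUP : U ≤ centralizer (P : Set G) := le_centralizer_iff.1 (hPU.ge.trans inf_le_right)
  have hn : ((centralizer (P : Set G)).map φ).Normal := ⟨by
    rintro _ ⟨c, hc, rfl⟩ a
    obtain ⟨n, hn, rfl⟩ := hN a
    refine ⟨n * c * n⁻¹, fun v hv => ?_, by simp⟩
    have := hc _ ((mem_normalizer_iff.1 (inv_mem hn) v).1 hv)
    calc v * (n * c * n⁻¹) = n * (n⁻¹ * v * n⁻¹⁻¹ * c) * n⁻¹ := by group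
      _ = n * c * n⁻¹ * v := by rw [this]; group⟩
  rcases (hn.subgroupOf S).eq_bot_or_eq_top with e | e
  · refine hT1 (eq_bot_iff.2 fun τ hτ => e.le ?_)
    exact map_mono hUP (hUm.le ⟨τ, hτ, rfl⟩)
  · obtain ⟨c, hc, ec⟩ : (y : A) ∈ (centralizer (P : Set G)).map φ := e.ge (mem_top y)
    obtain ⟨j, hj⟩ := frob_pow (g := c) (u := u) (by rw [← oa, ← ec]; exact orderOf_map_dvd φ c)
    exact h2 (frob_om hu hsu hP.pgrp wP w1 hj (Commute.pow_right (hc w wP) j))

end Cfsg.Agent.ISP
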