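import Mathlib
import Cfsg.Prelude.Def_Sporadic

/-!
# S3586 (isospectral to `L_n^ε(q)` ⇒ no sporadic-order / Tits factor): definitions
-/

set_option autoImplicit false

namespace Cfsg.Agent.ISP

/-- `m` is an element order of `G`. -/
def Om (G : Type*) [Group G] (m : ℕ) : Prop := ∃ g : G, orderOf g = m

/-- The 26 sporadic orders and the order of the Tits group (last). -/
def spoL : List ℕ :=
  [7920, 95040, 443520, 10200960, 244823040, 175560, 604800, 50232960, 86775571046077562880,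
   4157776806543360000, 42305421312000, 495766656000, 64561751654400, 4089470473293004800,
   1255205709190661721292800, 44352000, 898128000, 4030387200, 145926144000, 448345497600,
   460815505920, 273030912000000, 51765179004000000, 90745943887872000,
   4154781481226426191177580544000000, 808017424794512875886459904961710757005754368000000000,
   17971200]

/-- `m` is a sporadic order or the order of the Tits group. -/
def Spo (m : ℕ) : Prop := m ∈ spoL

/-- `φ : G ↠ A` with solvable kernel, `S ⊴ A` simple of sporadic order, `C_A(S) = 1`. -/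
structure Cf {G A : Type*} [Group G] [Group A] (φ : G →* A) (S : Subgroup A) : Prop where
  surj : Function.Surjective φ
  solv : Group.IsSolvable φ.ker
  nor : S.Normal
  simp : IsSimpleGroup S
  spo : Spo (Nat.card S)
  cent : Subgroup.centralizer (S : Set A) = ⊥

/-- `Q` has multiplicative order `k` modulo `r`. -/
def Od (Q : ℤ) (r k : ℕ) : Prop := ∀ j : ℕ, (r : ℤ) ∣ Q ^ j - 1 ↔ k ∣ j

/-- The spectrum of `U₆(2)` (upper bound). -/
def W62 (m : ℕ) : Prop :=
  m ∣ 7 ∨ m ∣ 8 ∨ m ∣ 10 ∨ m ∣ 11 ∨ m ∣ 12 ∨ m ∣ 15 ∨ m ∣ 18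

/-- The facts on the spectrum `W` of `L_n^ε(q)`, `Q = ε q`, `q = p ^ f`, that the proof uses. -/
structure LS (W : ℕ → Prop) (p n : ℕ) (Q : ℤ) : Prop where
  pp : p.Prime
  hQ : ∃ f, 0 < f ∧ Q.natAbs = p ^ f
  hn : 4 ≤ n
  ne : ¬ (n = 5 ∧ Q = -2)
  adj : ∀ r s k l : ℕ, r.Prime → s.Prime → r ≠ p → s ≠ p → r ≠ s → Od Q r k → Od Q s l →
    2 ≤ k → k ≤ l → l ≤ n → (W (r * s) ↔ k + l ≤ n ∨ k ∣ l)
  adjp : ∀ r : ℕ, r.Prime → r ≠ p → ¬ (r : ℤ) ∣ Q - 1 → W (r * p) →
    ∃ d, 0 < d ∧ d + 2 ≤ n ∧ (r : ℤ) ∣ Q ^ d - 1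
  top : ∀ r m : ℕ, r.Prime → Od Q r n → r ∣ m → W m →
    (m : ℤ) * (Int.gcd n (Q - 1) : ℕ) * (Q - 1) ∣ Q ^ n - 1
  sub : ∀ r m : ℕ, r.Prime → Od Q r (n - 1) → r ∣ m → W m →
    (m : ℤ) * (Int.gcd n (Q - 1) : ℕ) ∣ Q ^ (n - 1) - 1
  low : ∀ m i : ℕ, 0 < i → i ≤ n → (m : ℤ) ∣ Q ^ i - 1 → m.Coprime (Q - 1).natAbs → W m
  lowp : W p
  pow : ∀ t c : ℕ, t.Prime → t ≠ p → W (t ^ c) → ∃ j, 0 < j ∧ j ≤ n ∧ ((t : ℤ) ^ c) ∣ Q ^ j - 1
  powp : ∀ c : ℕ, W (p ^ (c + 1)) → p ^ c < n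
  mix : ∀ r j c : ℕ, r.Prime → Od Q r j → n < 2 * j → W (r * p ^ (c + 1)) → p ^ c + j < n
  u62 : n = 6 → Q = -2 → (∀ m, W m → W62 m) ∧ W 9 ∧ W 10 ∧ W 15
  l43 : n = 4 → Q = 3 → ¬ W 16

section Basic

variable {G A : Type*} [Group G] [Group A]

theorem Om.of_dvd [Finite G] {m d : ℕ} (h : Om G m) (hd : d ∣ m) : Om G d := by
  obtain ⟨g, rfl⟩ := h
  obtain ⟨k, hk⟩ := hd
  have h0 : orderOf g ≠ 0 := (orderOf_pos g).ne'
  have hk0 : k ≠ 0 := fun e => h0 (by rw [hk, e, mul_zero])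
  refine ⟨g ^ k, ?_⟩
  rw [orderOf_pow_of_dvd hk0 ⟨d, by rw [hk, mul_comm]⟩, hk, Nat.mul_div_cancel _ (Nat.pos_of_ne_zero hk0)]

theorem Om.of_surj [Finite G] (f : G →* A) (hf : Function.Surjective f) {m : ℕ} (h : Om A m) :
    Om G m := by
  obtain ⟨a, rfl⟩ := h
  obtain ⟨g, rfl⟩ := hf a
  exact Om.of_dvd ⟨g, rfl⟩ (orderOf_map_dvd f g)

theorem Om.of_inj (f : A →* G) (hf : Function.Injective f) {m : ℕ} (h : Om A m) : Om G m := by
  obtain ⟨a, rfl⟩ := h
  exact ⟨f a, orderOf_injective f hf a⟩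

theorem Om.of_sub (H : Subgroup G) {m : ℕ} (h : Om H m) : Om G m :=
  h.of_inj H.subtype H.subtype_injective

theorem Om.of_prime [Finite G] {r : ℕ} (hr : r.Prime) (h : r ∣ Nat.card G) : Om G r := by
  haveI := Fact.mk hr
  exact exists_prime_orderOf_dvd_card' r h

theorem Om.dvd_card {m : ℕ} (h : Om G m) : m ∣ Nat.card G := by
  obtain ⟨g, rfl⟩ := h
  exact orderOf_dvd_natCard g

/-- Commuting elements of coprime orders. -/
theorem Om.of_commute {x y : G} (h : Commute x y) (hc : (orderOf x).Coprime (orderOf y)) :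
    Om G (orderOf x * orderOf y) := ⟨x * y, h.orderOf_mul_eq_mul_orderOf_of_coprime hc⟩

variable {φ : G →* A} {S : Subgroup A}

theorem Cf.omA [Finite G] (h : Cf φ S) {m : ℕ} (hm : Om A m) : Om G m := hm.of_surj φ h.surj

theorem Cf.om [Finite G] (h : Cf φ S) {m : ℕ} (hm : Om S m) : Om G m := h.omA (hm.of_sub S)

theorem Cf.finite [Finite G] (h : Cf φ S) : Finite A := Finite.of_surjective φ h.surj

theorem Cf.card_eq (h : Cf φ S) : Nat.card G = Nat.card φ.ker * Nat.card A := by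
  rw [← Subgroup.card_mul_index φ.ker, Subgroup.index_ker, MonoidHom.range_eq_top.2 h.surj,
    Subgroup.card_top]

theorem Cf.card_eq' (h : Cf φ S) : Nat.card G = Nat.card φ.ker * (Nat.card S * S.index) := by
  rw [h.card_eq, Subgroup.card_mul_index]

end Basic

theorem Spo.even {m : ℕ} (h : Spo m) : 8 ∣ m := by
  unfold Spo spoL at h
  simp only [List.mem_cons, List.not_mem_nil, or_false] at h
  rcases h with h | h | h | h | h | h | h | h | h | h | h | h | h | h | h | h | h | h | h | h | h |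
    h | h | h | h | h | h <;> subst h <;> norm_num

theorem Spo.ge {m : ℕ} (h : Spo m) : 7920 ≤ m := by
  unfold Spo spoL at h
  simp only [List.mem_cons, List.not_mem_nil, or_false] at h
  rcases h with h | h | h | h | h | h | h | h | h | h | h | h | h | h | h | h | h | h | h | h | h |
    h | h | h | h | h | h <;> subst h <;> norm_num

theorem spo_of_sporadic {T : Type*} [Group T] (h : IsSporadic T) :
    Spo (Nat.card T) ∧ Nat.card T ≠ 17971200 := by
  unfold Spo spoL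
  rcases h with h | h | h | h | h | h | h | h | h | h | h | h | h | h | h | h | h | h | h | h | h |
    h | h | h | h | h <;> rw [h.2] <;> simp

end Cfsg.Agent.ISP
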