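import Cfsg.Agent.ISP.Defs
import Cfsg.Agent.ISP.C1
import Cfsg.Agent.ISP.Frob

set_option autoImplicit false

namespace Cfsg.Agent.ISP

variable {G A : Type*} [Group G] [Finite G] [Group A] {φ : G →* A} {S : Subgroup A}

open Subgroup PLocal.Amb

theorem hs5_seven {m : ℕ} (h : W62 (7 * m)) : m = 1 := by
  rcases h with h | h | h | h | h | h | h
  · exact Nat.dvd_one.1 (Nat.dvd_of_mul_dvd_mul_left (by norm_num : 0 < 7) (by simpa using h))
  all_goals exact absurd ((Nat.dvd_mul_right 7 m).trans h) (by norm_num)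

theorem hs5_comm {X : Type*} [Group X] [Finite X] (hW : ∀ m, Om X m → W62 m) {U : Subgroup X}
    (hU : IsPGroup 7 U) {u e : X} (hu : u ∈ U) (u1 : u ≠ 1) (he : ¬ 7 ∣ orderOf e)
    (hc : Commute u e) : e = 1 := by
  have : Fact (Nat.Prime 7) := ⟨by norm_num⟩
  obtain ⟨k, hk⟩ := IsPGroup.iff_orderOf.1 hU ⟨u, hu⟩
  rw [orderOf_mk] at hk
  have k0 : k ≠ 0 := by
    rintro rfl
    exact u1 (orderOf_eq_one_iff.1 (hk.trans (pow_zero 7)))
  have := Om.of_commute hc (by
    rw [hk]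
    exact ((Nat.Prime.coprime_iff_not_dvd (by norm_num)).2 he).pow_left k)
  rw [hk] at this
  exact orderOf_eq_one_iff.1
    (hs5_seven (hW _ (this.of_dvd (Nat.mul_dvd_mul_right (dvd_pow_self 7 k0) _))))

theorem hs5_aux {X : Type*} [Group X] [Finite X] (hc : Nat.card X = 44352000)
    (hW : ∀ m, Om X m → W62 m) :
    ∃ (T : Subgroup X) (y : X), IsPGroup 7 T ∧ T ≠ ⊥ ∧ y ∈ normalizer (T : Set X) ∧
      ∀ m : ℕ, y ^ m ∈ T → 6 ∣ m := by
  have p7 : Nat.Prime 7 := by norm_num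
  have := Fact.mk p7
  obtain ⟨P⟩ : Nonempty (Sylow 7 X) := inferInstance
  have hP : Nat.card P = 7 := by
    have h0 : Nat.card X ≠ 0 := Nat.card_pos.ne'
    have h1 := (p7.pow_dvd_iff_le_factorization (k := 1) h0).1 (by rw [hc]; norm_num)
    have h2 : ¬ 2 ≤ (Nat.card X).factorization 7 := fun e =>
      absurd ((p7.pow_dvd_iff_le_factorization h0).2 e) (by rw [hc]; norm_num)
    rw [P.card_eq_multiplicity, show (Nat.card X).factorization 7 = 1 by omega, pow_one]
  have hP1 : (P : Subgroup X) ≠ ⊥ := fun e => by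
    rw [e, card_bot] at hP
    omega
  have cyc : IsCyclic P := isCyclic_of_prime_card hP
  have hPC : (P : Subgroup X) ≤ centralizer ((P : Subgroup X) : Set X) := fun a ha b hb =>
    congrArg Subtype.val (cyc.commGroup.mul_comm (⟨b, hb⟩ : P) ⟨a, ha⟩)
  obtain ⟨⟨u, hu⟩, u0⟩ := ne_bot_iff_exists_ne_one.1 hP1
  have u1 : u ≠ 1 := fun e => u0 (Subtype.ext e)
  have hC : IsPGroup 7 (centralizer ((P : Subgroup X) : Set X)) := by
    refine IsPGroup.of_card (Nat.eq_prime_pow_of_unique_prime_dvd Nat.card_pos.ne'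
      fun {r} hr hd => ?_)
    by_contra r7
    obtain ⟨g, hg⟩ := Om.of_prime hr hd
    have := hs5_comm hW P.isPGroup' hu u1 (e := (g : X)) (by
      rw [orderOf_coe, hg]
      exact fun e => r7 ((Nat.prime_dvd_prime_iff_eq p7 hr).1 e).symm) (g.2 u hu)
    rw [← orderOf_coe, this, orderOf_one] at hg
    exact hr.ne_one hg.symm
  have hCP : centralizer ((P : Subgroup X) : Set X) = P := P.is_maximal' hC hPC
  set f := (P : Subgroup X).normalizerMonoidHom with hf
  have hk : f.ker = (P : Subgroup X).subgroupOf (normalizer ((P : Subgroup X) : Set X)) := by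
    rw [hf, normalizerMonoidHom_ker, hCP]
  have hA : Nat.card (MulAut P) = 6 := by
    rw [IsCyclic.card_mulAut, hP, Nat.totient_prime p7]
  have c1 := f.ker.card_mul_index
  rw [index_ker, hk, Nat.card_congr (subgroupOfEquivOfLe le_normalizer).toEquiv, hP] at c1
  have c2 := (normalizer ((P : Subgroup X) : Set X)).card_mul_index
  have c3 := card_sylow_modEq_one 7 X
  rw [P.card_eq_index_normalizer] at c3
  have c4 : Nat.card f.range ∣ 6 := hA ▸ card_subgroup_dvd_card _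
  have c5 : Nat.card f.range = 6 := by
    rw [← c1, hc] at c2
    unfold Nat.ModEq at c3
    have := Nat.le_of_dvd (by norm_num) c4
    generalize Nat.card f.range = e at *
    generalize (normalizer ((P : Subgroup X) : Set X)).index = i at *
    interval_cases e <;> omega
  have c6 : f.range = ⊤ := eq_top_of_card_eq _ (c5.trans hA.symm)
  have : Fact (Nat.card P).Prime := ⟨by rw [hP]; exact p7⟩
  have : IsCyclic (MulAut P) := isCyclic_of_surjective (IsCyclic.mulAutMulEquiv P).symm.toMonoidHom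
    (IsCyclic.mulAutMulEquiv P).symm.surjective
  obtain ⟨σ, hσ⟩ := IsCyclic.exists_ofOrder_eq_natCard (α := MulAut P)
  obtain ⟨y, rfl⟩ := c6.ge (mem_top σ)
  refine ⟨P, y, P.isPGroup', hP1, y.2, fun m hm => ?_⟩
  rw [← hA, ← hσ, orderOf_dvd_iff_pow_eq_one, ← map_pow, ← MonoidHom.mem_ker, hk]
  exact hm

/-- `|S| = |HS|`, spectrum inside that of `U₆(2)`: `5 ∤ |K|`.
`7 ∤ |K|` (`Cf.not_dvd_ker`), `7 ∤ |A:S|` (`Cf.dvd_of_index`, `ℓ = 11`), so `49 ∤ |G|` and `C_G(Z) = Z` for `|Z| = 7`.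
In `S`: `C_S(7) = 7`, `n₇ = 6336000/e ≡ 1 (7)`, `e ∣ 6`, `6336000 ≡ 6`, so `e = 6`. Suppose `5 ∣ |K|`, `P` Sylow 5 of `K`,
`N = N_G(P) ↠ A`; `Z` Sylow 7 of `N`; Frattini in the preimage of `N_S(φ Z)`: `N_N(Z) ↠ N_S(φ Z)`, so there is
`y ∈ N` normalising `Z = ⟨z⟩` acting with order 6 (`orderOf y = 6` as `C(Z) = Z`, `y ∉`...). `Z⟨y⟩` is a Frobenius group of order 42 acting on
`V = Ω₁ Z(P)` with `C_V(Z) = 1` (no 35); the complement has a nontrivial fixed point (`v ↦ ∏ y^j v`: if this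
vanished for all conjugates of `⟨y⟩`, summing over the partition of `Z⟨y⟩` gives `v^7 = 1`): an element of order 30. -/
theorem Cf.hs5 (h : Cf φ S) (hc : Nat.card S = 44352000) (hW : ∀ m, Om G m → W62 m) :
    ¬ 5 ∣ Nat.card φ.ker := by
  intro hK
  have p7 : Nat.Prime 7 := by norm_num
  have := Fact.mk p7
  have := Fact.mk Nat.prime_five
  have := h.finite
  obtain ⟨T, y, hT, hT1, hyT, hy⟩ := hs5_aux hc fun m hm => hW m (h.om hm)
  obtain ⟨P, hP⟩ := exists_isSyl 5 φ.ker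
  have hN : ∀ a : A, ∃ n ∈ normalizer (P : Set G), φ n = a := fun a => by
    obtain ⟨g, rfl⟩ := h.surj a
    obtain ⟨k, hk, x, hx, rfl⟩ := hP.frattini (g := g) (by rw [normalizer_eq_top]; trivial)
    exact ⟨x, hx, by rw [map_mul, show φ k = 1 from hk, one_mul]⟩
  have hP1 : P ≠ ⊥ := fun e => hP.eq_bot_iff.1 e hK
  set T' := T.map S.subtype with hT'
  have hTp : IsPGroup 7 T' := hT.map _
  have ha : (y : A) ∈ normalizer (T' : Set A) := le_normalizer_map _ ⟨y, hyT, rfl⟩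
  set X := normalizer (P : Set G) ⊓ T'.comap φ with hX
  obtain ⟨U, hU⟩ := exists_isSyl 7 X
  have hXm : X.map φ = T' := le_antisymm (map_le_iff_le_comap.2 inf_le_right) fun τ hτ => by
    obtain ⟨n, hn, rfl⟩ := hN τ
    exact ⟨n, ⟨hn, hτ⟩, rfl⟩
  have hUm : T' = U.map φ := by
    have := hU.map φ
    rw [hXm] at this
    exact this.eq hTp this.le le_rfl
  have hU1 : U ≠ ⊥ := fun e => by
    rw [e, Subgroup.map_bot] at hUm
    exact hT1 ((map_eq_bot_iff_of_injective _ S.subtype_injective).1 hUm)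
  obtain ⟨⟨u, hu⟩, u0⟩ := ne_bot_iff_exists_ne_one.1 hU1
  have u1 : u ≠ 1 := fun e => u0 (Subtype.ext e)
  obtain ⟨n0, hn0, e0⟩ := hN y
  obtain ⟨x, hx, n1, hn1, rfl⟩ := hU.frattini (g := n0) (inf_normalizer_le_normalizer_inf
    ⟨le_normalizer hn0, le_normalizer_comap φ (by rw [mem_comap, e0]; exact ha)⟩)
  have n1P : n1 ∈ normalizer (P : Set G) := (Subgroup.mul_mem_cancel_left _ hx.1).1 hn0
  have hd : 6 ∣ orderOf n1 := by
    have k1 := frob_mul_pow (T'.inv_mem (show φ x ∈ T' from hx.2)) ha (orderOf n1)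
    rw [← e0, map_mul, inv_mul_cancel_left, ← map_pow, pow_orderOf_eq_one, map_one, one_mul,
      inv_mem_iff, ← map_mul, e0] at k1
    obtain ⟨z, hz, e⟩ := k1
    exact hy _ (by rwa [show z = y ^ orderOf n1 from Subtype.ext e] at hz)
  obtain ⟨k, hk⟩ := frob_pow hd
  have hEU : zpowers (n1 ^ k) ≤ normalizer (U : Set G) := zpowers_le.2 (pow_mem hn1 k)
  have := hU.pgrp.isNilpotent
  have := hP.pgrp.isNilpotent
  have hF := Solv.Wielandt.frobenius_fixed_formula U (zpowers (n1 ^ k)) hEU inferInstance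
    (fun e e1 e2 v v1 c => by
      by_contra r
      refine e2 (hs5_comm hW hU.pgrp v1 r (fun d => ?_) c.symm)
      exact absurd (d.trans (hk ▸ orderOf_dvd_of_mem_zpowers e1)) (by norm_num))
    P (sup_le (hU.le.trans inf_le_left) (zpowers_le.2 (pow_mem n1P k))) inferInstance (by
      obtain ⟨i, hi⟩ := hP.pgrp.exists_card_eq
      obtain ⟨j, hj⟩ := hU.pgrp.exists_card_eq
      rw [sup_comm]
      refine Nat.Coprime.coprime_dvd_right (Grp.card_sup_dvd_of_le_normalizer hEU) ?_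
      rw [hi, hj, Nat.card_zpowers, hk]
      exact ((by norm_num : Nat.Coprime 5 6).mul_right
        ((by norm_num : Nat.Coprime 5 7).pow_right j)).pow_left i)
  have o5 : ∀ v ∈ P, ∃ i, orderOf v = 5 ^ i := fun v hv => by
    obtain ⟨i, hi⟩ := IsPGroup.iff_orderOf.1 hP.pgrp ⟨v, hv⟩
    exact ⟨i, by rwa [orderOf_mk] at hi⟩
  have hC : P ⊓ centralizer (zpowers (n1 ^ k) : Set G) = ⊥ := eq_bot_iff.2 fun v hv => by
    by_contra r
    obtain ⟨i, hi⟩ := o5 v hv.1
    have i0 : i ≠ 0 := by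
      rintro rfl
      exact r (orderOf_eq_one_iff.1 (hi.trans (pow_zero 5)))
    have := Om.of_commute (show Commute v (n1 ^ k) from (hv.2 _ (mem_zpowers _)).symm) (by
      rw [hi, hk]
      exact (by norm_num : Nat.Coprime 5 6).pow_left i)
    rw [hi, hk] at this
    exact absurd (hW _ (this.of_dvd (Nat.mul_dvd_mul_right (dvd_pow_self 5 i0) 6)))
      (by unfold W62; norm_num)
  have hD : P ⊓ centralizer (U : Set G) = ⊥ := eq_bot_iff.2 fun v hv => by
    obtain ⟨i, hi⟩ := o5 v hv.1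
    refine hs5_comm hW hU.pgrp hu u1 (fun d => ?_) (hv.2 u hu)
    rw [hi] at d
    exact absurd (p7.dvd_of_dvd_pow d) (by norm_num)
  rw [hC, hD, card_bot, one_pow, one_mul] at hF
  exact hP1 (card_eq_one.1 (Nat.eq_one_of_mul_eq_one_left hF))

end Cfsg.Agent.ISP
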