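import Cfsg.Agent.ISP.Defs
import Cfsg.Agent.ISP.HBDefs
import Cfsg.Agent.ISP.C0a
import Cfsg.Agent.Solv.FpfThompson
import Cfsg.Agent.S0065

set_option autoImplicit false

namespace Cfsg.Agent.ISP

universe u

theorem hsv_w7 {m : ℕ} (h : W62 (m * 7)) : m = 1 := by
  have k : ∀ c : ℕ, ¬ 7 ∣ c → ¬ m * 7 ∣ c := fun c hc e => hc ((Dvd.intro_left _ rfl).trans e)
  rcases h with h | h | h | h | h | h | h
  · have : m * 7 ∣ 1 * 7 := by simpa using h
    exact Nat.dvd_one.1 (Nat.dvd_of_mul_dvd_mul_right (by norm_num) this)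
  all_goals exact absurd h (k _ (by norm_num))

/-- `Ω₁ Z(K)` for the prime 3, as a subgroup of `G`. -/
def hsvV {G : Type*} [Group G] (K : Subgroup G) : Subgroup G where
  carrier := {x | x ∈ K ∧ (∀ k ∈ K, k * x = x * k) ∧ x ^ 3 = 1}
  one_mem' := ⟨K.one_mem, by simp, by simp⟩
  mul_mem' := by
    rintro a b ⟨ha, ha1, ha2⟩ ⟨hb, hb1, hb2⟩
    refine ⟨K.mul_mem ha hb, fun k hk => ?_, ?_⟩
    · rw [← mul_assoc, ha1 k hk, mul_assoc, hb1 k hk, mul_assoc]
    · have c : Commute a b := hb1 a ha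
      rw [c.mul_pow, ha2, hb2, one_mul]
  inv_mem' := by
    rintro a ⟨ha, ha1, ha2⟩
    refine ⟨K.inv_mem ha, fun k hk => ?_, by rw [inv_pow, ha2, inv_one]⟩
    have c : Commute k a := ha1 k hk
    exact c.inv_right

instance hsvV_normal {G : Type*} [Group G] (K : Subgroup G) [hK : K.Normal] : (hsvV K).Normal := by
  refine ⟨fun x ⟨hx, h1, h2⟩ g => ⟨hK.conj_mem x hx g, fun k hk => ?_, ?_⟩⟩
  · have := h1 _ (hK.conj_mem k hk g⁻¹)
    calc k * (g * x * g⁻¹) = g * (g⁻¹ * k * g⁻¹⁻¹ * x) * g⁻¹ := by group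
      _ = g * x * g⁻¹ * k := by rw [this]; group
  · rw [conj_pow, h2]; simp

theorem hsv_nt {G : Type*} [Group G] [Finite G] (K : Subgroup G) [Group.IsNilpotent K]
    (h3 : 3 ∣ Nat.card K) : ∃ v ∈ hsvV K, v ≠ 1 := by
  haveI : Fact (Nat.Prime 3) := ⟨Nat.prime_three⟩
  obtain ⟨P⟩ : Nonempty (Sylow 3 K) := inferInstance
  haveI : (P : Subgroup K).Normal := by
    have := (Group.isNilpotent_of_finite_tfae (G := K)).out 0 3
    exact this.1 inferInstance 3 inferInstance P
  have hP : (P : Subgroup K) ≠ ⊥ := P.ne_bot_of_dvd_card h3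
  have h1 := Cfsg.Agent.S0065.result (P : Subgroup K) hP
  have hp : IsPGroup 3 ((P : Subgroup K) ⊓ Subgroup.center K : Subgroup K) := P.2.to_inf_left
  obtain ⟨n, hn⟩ := IsPGroup.iff_card.1 hp
  have hd : 3 ∣ Nat.card ((P : Subgroup K) ⊓ Subgroup.center K : Subgroup K) := by
    rcases n with _ | n
    · exact absurd (Subgroup.card_eq_one.1 (by simpa using hn)) h1
    · rw [hn]; exact dvd_pow_self 3 (by omega)
  obtain ⟨x, hx⟩ := exists_prime_orderOf_dvd_card' 3 hd
  have ho : orderOf ((x : K) : G) = 3 := by rw [Subgroup.orderOf_coe, Subgroup.orderOf_coe, hx]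
  refine ⟨((x : K) : G), ⟨(x : K).2, fun k hk => ?_, orderOf_dvd_iff_pow_eq_one.1 ho.dvd⟩, fun e => ?_⟩
  · exact congrArg Subtype.val (Subgroup.mem_center_iff.1 x.2.2 ⟨k, hk⟩)
  · rw [e, orderOf_one] at ho; omega

theorem hsv_lift {G A : Type*} [Group G] [Finite G] [Group A] (φ : G →* A) {x v : G}
    (hv : orderOf v = 3) (hc : Commute v x) (h3 : ¬ 3 ∣ orderOf (φ x)) :
    Om G (3 * orderOf (φ x)) := by
  obtain ⟨e, m, hm, he⟩ := Nat.exists_eq_pow_mul_and_not_dvd (orderOf_pos x).ne' 3 (by norm_num)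
  have h0 : 3 ^ e ≠ 0 := by positivity
  have o1 : orderOf (x ^ 3 ^ e) = m := by
    rw [orderOf_pow_of_dvd h0 ⟨m, he⟩, he, Nat.mul_div_cancel_left _ (Nat.pos_of_ne_zero h0)]
  have cop : (orderOf (φ x)).Coprime (3 ^ e) :=
    ((Nat.prime_three.coprime_iff_not_dvd.2 h3).symm).pow_right e
  have o2 : orderOf (φ x) ∣ m := by
    rw [← o1, ← cop.orderOf_pow, ← map_pow]
    exact orderOf_map_dvd φ _
  have := Om.of_commute (hc.pow_right (3 ^ e))
    (by rw [hv, o1]; exact Nat.prime_three.coprime_iff_not_dvd.2 hm)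
  rw [hv, o1] at this
  exact this.of_dvd (Nat.mul_dvd_mul_left 3 o2)

/-- `7 ∤ |K|` (`Cf.not_dvd_ker`, no 14). An element `z` of order 7 of `G` acts on `K` without fixed points (7 is adjacent to nothing), so `K`
is nilpotent (Thompson; search the library, `K` is even solvable). `V = Ω₁ Z(K₃)` is characteristic in `K`, centralised by `K`, so
`A = G/K` and `S` act on it. A `3'`-element `g ∈ S` lifts to a `3'`-element `h` of `G` (the `3'`-part of any lift), of order a
multiple of `orderOf g`; if `g` fixes `v ≠ 1` then `h v` has order `3 · orderOf h`. The kernel of the action is normal in the simple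
group `S` and has no element of order 7 (`W62 21` fails). -/
theorem Cf.exists_hb {G : Type u} {A : Type*} [Group G] [Finite G] [Group A] {φ : G →* A}
    {S : Subgroup A} (h : Cf φ S) (h7 : 7 ∣ Nat.card S) (hW : ∀ m, Om G m → W62 m)
    (h3 : 3 ∣ Nat.card φ.ker) :
    ∃ (V : Type u) (_ : CommGroup V) (_ : Finite V) (_ : MulDistribMulAction S V), HB S V := by
  have p7 : Nat.Prime 7 := by norm_num
  haveI := h.finite
  obtain ⟨z, hz⟩ := h.om (Om.of_prime p7 h7)
  have hK7 : ¬ 7 ∣ Nat.card φ.ker := h.not_dvd_ker p7 (by norm_num) fun e => by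
    have := hsv_w7 (hW _ e); omega
  haveI : Group.IsNilpotent φ.ker := by
    refine Solv.isNilpotent_of_fpf p7 φ.ker (MulAut.conjNormal z) (fun k hk => ?_) ?_
    · have c : Commute (k : G) z := by
        have := congrArg Subtype.val hk
        rw [MulAut.conjNormal_apply, mul_inv_eq_iff_eq_mul] at this
        exact this.symm
      have d : orderOf (k : G) ∣ Nat.card φ.ker := Subgroup.orderOf_dvd_natCard _ k.2
      have := Om.of_commute c (by
        rw [hz]; exact (p7.coprime_iff_not_dvd.2 fun e => hK7 (e.trans d)).symm)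
      rw [hz] at this
      exact Subtype.ext (orderOf_eq_one_iff.1 (hsv_w7 (hW _ this)))
    · rw [← map_pow, ← hz, pow_orderOf_eq_one, map_one]
  obtain ⟨v0, hv0, hv1⟩ := hsv_nt φ.ker h3
  have hle : φ.ker ≤ (MulAut.conjNormal : G →* MulAut (hsvV φ.ker)).ker := fun k hk => by
    refine MulEquiv.ext fun v => Subtype.ext ?_
    rw [MulAut.conjNormal_apply, v.2.2.1 k hk]; simp
  let ρ : A →* MulAut (hsvV φ.ker) := φ.liftOfSurjective h.surj ⟨_, hle⟩
  have hρ : ∀ (x : G) (v : hsvV φ.ker), (ρ (φ x) v : G) = x * v * x⁻¹ := fun x v => by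
    have : ρ (φ x) = MulAut.conjNormal x := φ.liftOfRightInverse_comp_apply _ _ ⟨_, hle⟩ x
    rw [this, MulAut.conjNormal_apply]
  letI cg : CommGroup (hsvV φ.ker) :=
    { (inferInstance : Group (hsvV φ.ker)) with
      mul_comm := fun a b => Subtype.ext (b.2.2.1 a a.2.1) }
  letI act : MulDistribMulAction S (hsvV φ.ker) :=
    MulDistribMulAction.compHom (hsvV φ.ker) (ρ.comp S.subtype)
  have sm : ∀ (g : S) (v : hsvV φ.ker), g • v = ρ g v := fun _ _ => rfl
  have fx : ∀ (g : S) (v : hsvV φ.ker), ¬ 3 ∣ orderOf g → v ≠ 1 → g • v = v →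
      W62 (3 * orderOf g) := fun g v hg hv e => by
    obtain ⟨x, hx⟩ := h.surj g
    have e1 := congrArg Subtype.val e
    rw [sm, ← hx, hρ, mul_inv_eq_iff_eq_mul] at e1
    haveI : Fact (Nat.Prime 3) := ⟨Nat.prime_three⟩
    have ov : orderOf (v : G) = 3 := orderOf_eq_prime v.2.2.2 fun e => hv (Subtype.ext e)
    have og : orderOf (φ x) = orderOf g := by rw [hx, Subgroup.orderOf_coe]
    have := hsv_lift φ ov (show Commute (v : G) x from e1.symm) (by rwa [og])
    rw [og] at this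
    exact hW _ this
  refine ⟨hsvV φ.ker, cg, inferInstance, act, h.simp, fun m hm => hW m (h.om hm),
    fun v => Subtype.ext v.2.2.2, ⟨⟨v0, hv0⟩, 1, fun e => hv1 (congrArg Subtype.val e)⟩, fx,
    fun g hg => ?_⟩
  haveI := h.simp
  rcases (inferInstance : (ρ.comp S.subtype).ker.Normal).eq_bot_or_eq_top with e | e
  · have : g ∈ (ρ.comp S.subtype).ker := MulEquiv.ext fun v => hg v
    rwa [e] at this
  · obtain ⟨y, hy⟩ := Om.of_prime (G := S) p7 h7
    have hy1 : y ∈ (ρ.comp S.subtype).ker := e ▸ Subgroup.mem_top y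
    have := fx y ⟨v0, hv0⟩ (by rw [hy]; norm_num) (fun e => hv1 (congrArg Subtype.val e))
      (by rw [sm]; exact DFunLike.congr_fun hy1 _)
    rw [hy] at this
    have := hsv_w7 this
    omega

end Cfsg.Agent.ISP
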