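import Mathlib
import Cfsg.Agent.ISP.NTDefs

/-!
Kills of the arithmetic survivors by tools C and G.
-/

set_option autoImplicit false

namespace Cfsg.Agent.ISP

/-- Decidable form of `Od`. -/
def NumkOd (Q : ℤ) (r k : ℕ) : Prop :=
  0 < k ∧ (r : ℤ) ∣ Q ^ k - 1 ∧ ∀ d < k, 0 < d → ¬ (r : ℤ) ∣ Q ^ d - 1

instance (Q : ℤ) (r k : ℕ) : Decidable (NumkOd Q r k) := by unfold NumkOd; infer_instance

theorem NumkOd.od {Q : ℤ} {r k : ℕ} (h : NumkOd Q r k) : Od Q r k := by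
  intro j
  obtain ⟨h0, h1, h2⟩ := h
  have h3 : ∀ u, (r : ℤ) ∣ Q ^ (k * u) - 1 := fun u => h1.trans (by
    simpa [pow_mul] using sub_dvd_pow_sub_pow (Q ^ k) 1 u)
  refine ⟨fun e => ?_, fun ⟨u, hu⟩ => hu ▸ h3 u⟩
  by_contra hc
  refine h2 (j % k) (Nat.mod_lt _ h0) (Nat.pos_of_ne_zero fun e0 => hc (Nat.dvd_of_mod_eq_zero e0)) ?_
  have := dvd_sub e ((h3 (j / k)).mul_left (Q ^ (j % k)))
  rwa [show Q ^ j - 1 - Q ^ (j % k) * (Q ^ (k * (j / k)) - 1) = Q ^ (j % k) - 1 by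
    rw [mul_sub, ← pow_add, Nat.mod_add_div]; ring] at this

/-- A sufficient condition for non-adjacency. -/
def NumkNA1 (n : ℕ) (Q : ℤ) (s t : ℕ) : Prop :=
  (∃ k < n + 1, ∃ l < n + 1, NumkOd Q s k ∧ NumkOd Q t l ∧ 2 ≤ k ∧ k ≤ l ∧ n < k + l ∧ ¬ k ∣ l) ∨
  ((t : ℤ) ∣ Q ∧ s ≠ t ∧ ∀ d < n - 1, 0 < d → ¬ (s : ℤ) ∣ Q ^ d - 1) ∨
  (NumkOd Q s n ∧ ¬ ((s * t : ℕ) : ℤ) * (Int.gcd n (Q - 1) : ℕ) * (Q - 1) ∣ Q ^ n - 1) ∨
  (NumkOd Q s (n - 1) ∧ ¬ ((s * t : ℕ) : ℤ) * (Int.gcd n (Q - 1) : ℕ) ∣ Q ^ (n - 1) - 1)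

instance (n : ℕ) (Q : ℤ) (s t : ℕ) : Decidable (NumkNA1 n Q s t) := by
  unfold NumkNA1; infer_instance

/-- Symmetric form. -/
def NumkNA (n : ℕ) (Q : ℤ) (s t : ℕ) : Prop := NumkNA1 n Q s t ∨ NumkNA1 n Q t s

instance (n : ℕ) (Q : ℤ) (s t : ℕ) : Decidable (NumkNA n Q s t) := by
  unfold NumkNA; infer_instance

/-- A sufficient condition for membership of a prime. -/
def NumkIn (n : ℕ) (Q : ℤ) (s : ℕ) : Prop :=
  (s : ℤ) ∣ Q ∨ ∃ i < n + 1, 0 < i ∧ (s : ℤ) ∣ Q ^ i - 1 ∧ s.Coprime (Q - 1).natAbs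

instance (n : ℕ) (Q : ℤ) (s : ℕ) : Decidable (NumkIn n Q s) := by
  unfold NumkIn; infer_instance

/-- A sufficient condition for non-membership of a prime power. -/
def NumkNP (n : ℕ) (Q : ℤ) (t b : ℕ) : Prop :=
  ((t : ℤ) ∣ Q ∧ 0 < b ∧ n ≤ t ^ (b - 1)) ∨
  (¬ (t : ℤ) ∣ Q ∧ ∀ j < n + 1, 0 < j → ¬ (t : ℤ) ^ b ∣ Q ^ j - 1)

instance (n : ℕ) (Q : ℤ) (t b : ℕ) : Decidable (NumkNP n Q t b) := by
  unfold NumkNP; infer_instance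

instance (t b m : ℕ) : Decidable (Ex t b m) := by unfold Ex; infer_instance

variable {W : ℕ → Prop} {p n m : ℕ} {Q : ℤ}

theorem LS.numk_dvd (hL : LS W p n Q) : (p : ℤ) ∣ Q := by
  obtain ⟨a, ha, e⟩ := hL.hQ
  rw [Int.natCast_dvd, e]
  exact dvd_pow_self _ ha.ne'

theorem LS.numk_eq (hL : LS W p n Q) {t : ℕ} (ht : t.Prime) (h : (t : ℤ) ∣ Q) : t = p := by
  obtain ⟨a, ha, e⟩ := hL.hQ
  rw [Int.natCast_dvd, e] at h
  exact (Nat.prime_dvd_prime_iff_eq ht hL.pp).1 (ht.dvd_of_dvd_pow h)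

theorem LS.numk_nd (hL : LS W p n Q) {d : ℕ} (hd : 0 < d) : ¬ (p : ℤ) ∣ Q ^ d - 1 := fun e => by
  have := (dvd_sub_right (hL.numk_dvd.trans (dvd_pow_self Q hd.ne'))).1 e
  exact hL.pp.one_lt.ne' (by exact_mod_cast Int.eq_one_of_dvd_one (by positivity) this)

theorem LS.numk_na1 (hL : LS W p n Q) {s t : ℕ} (hs : s.Prime) (ht : t.Prime)
    (h : NumkNA1 n Q s t) : ¬ W (s * t) := by
  intro hw
  have hn := hL.hn
  rcases h with ⟨k, hk, l, hl, h1, h2, h3, h4, h5, h6⟩ | ⟨h1, h2, h3⟩ | ⟨h1, h2⟩ | ⟨h1, h2⟩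
  · have := (hL.adj s t k l hs ht (by rintro rfl; exact hL.numk_nd h1.1 h1.2.1)
      (by rintro rfl; exact hL.numk_nd h2.1 h2.2.1)
      (by rintro rfl; exact h6 ((h1.od l).1 h2.2.1)) h1.od h2.od h3 h4 (by omega)).1 hw
    exact this.elim (by omega) h6
  · obtain rfl := hL.numk_eq ht h1
    obtain ⟨d, e1, e2, e3⟩ := hL.adjp s hs h2 (by simpa using h3 1 (by omega) one_pos) hw
    exact h3 d (by omega) e1 e3
  · exact h2 (hL.top s _ hs h1.od (dvd_mul_right _ _) hw)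
  · exact h2 (hL.sub s _ hs h1.od (dvd_mul_right _ _) hw)

theorem LS.numk_na (hL : LS W p n Q) {s t : ℕ} (hs : s.Prime) (ht : t.Prime)
    (h : NumkNA n Q s t) : ¬ W (s * t) :=
  h.elim (hL.numk_na1 hs ht) fun h => mul_comm t s ▸ hL.numk_na1 ht hs h

theorem LS.numk_in (hL : LS W p n Q) {s : ℕ} (hs : s.Prime) (h : NumkIn n Q s) : W s := by
  rcases h with h | ⟨i, h1, h2, h3, h4⟩
  · exact hL.numk_eq hs h ▸ hL.lowp
  · exact hL.low s i h2 (by omega) h3 h4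

theorem LS.numk_np (hL : LS W p n Q) {t b : ℕ} (ht : t.Prime) (h : NumkNP n Q t b) :
    ¬ W (t ^ b) := by
  intro hw
  rcases h with ⟨h1, h2, h3⟩ | ⟨h1, h2⟩
  · obtain rfl := hL.numk_eq ht h1
    have := hL.powp (b - 1) (by rwa [Nat.sub_add_cancel h2])
    omega
  · obtain ⟨j, e1, e2, e3⟩ := hL.pow t b ht (by rintro rfl; exact h1 hL.numk_dvd) hw
    exact h2 j (by omega) e1 e3

theorem numk_C (hL : LS W p n Q) (hN : NT W m) (s t b : ℕ) (hs : s.Prime) (ht : t.Prime)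
    (h : t ≠ 2 ∧ NumkIn n Q s ∧ ¬ s ∣ m ∧ Ex t b m ∧ NumkNA n Q s t ∧ NumkNP n Q t b ∧
      ¬ s ∣ t ^ b - 1) : False := by
  obtain ⟨h1, h2, h3, h4, h5, h6, h7⟩ := h
  exact (hN.toolC s t b hs ht h1 (hL.numk_in hs h2) h3 h4 (hL.numk_na hs ht h5)).elim
    (hL.numk_np ht h6) h7

theorem numk_G (hL : LS W p n Q) (hN : NT W m) (s₁ s₂ t l₁ b₁ l₂ b₂ : ℕ) (p1 : s₁.Prime)
    (p2 : s₂.Prime) (p3 : t.Prime) (p4 : l₁.Prime) (p5 : l₂.Prime)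
    (h : s₁ ≠ s₂ ∧ s₁ ≠ t ∧ s₂ ≠ t ∧ NumkIn n Q s₁ ∧ NumkIn n Q s₂ ∧ NumkIn n Q t ∧ ¬ s₁ ∣ m ∧
      ¬ s₂ ∣ m ∧ NumkNA n Q s₁ s₂ ∧ NumkNA n Q s₁ t ∧ NumkNA n Q s₂ t ∧ Ex l₁ b₁ m ∧ Ex l₂ b₂ m ∧
      NumkNA n Q s₁ l₁ ∧ NumkNA n Q s₂ l₂ ∧ ¬ s₁ ∣ l₁ ^ b₁ - 1 ∧ ¬ s₂ ∣ l₂ ^ b₂ - 1) : False := by
  obtain ⟨h1, h2, h3, h4, h5, h6, h7, h8, h9, h10, h11, h12, h13, h14, h15, h16, h17⟩ := h
  exact hN.toolG s₁ s₂ t l₁ b₁ l₂ b₂ p1 p2 p3 p4 p5 h1 h2 h3 (hL.numk_in p1 h4) (hL.numk_in p2 h5)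
    (hL.numk_in p3 h6) h7 h8 (hL.numk_na p1 p2 h9) (hL.numk_na p1 p3 h10) (hL.numk_na p2 p3 h11)
    h12 h13 (hL.numk_na p1 p4 h14) (hL.numk_na p2 p5 h15) h16 h17

/-- The survivors `(m, n, Q)` of tools A and B. -/
def numkL : List (ℕ × ℕ × ℤ) :=
  [(7920, 5, -2),
   (95040, 5, -2),
   (175560, 4, 11),
   (443520, 6, -2),
   (604800, 4, -3),
   (604800, 4, 2),
   (17971200, 4, 3),
   (44352000, 6, -2),
   (898128000, 6, -2),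
   (4030387200, 4, 4),
   (175560, 6, -11),
   (175560, 6, -7),
   (443520, 6, 5),
   (604800, 4, -7),
   (604800, 4, -5),
   (604800, 6, 5),
   (17971200, 6, -3),
   (44352000, 6, 5),
   (50232960, 9, -2),
   (898128000, 6, 5),
   (145926144000, 4, -17),
   (145926144000, 6, 17),
   (448345497600, 6, 5),
   (460815505920, 10, -2),
   (64561751654400, 6, 5),
   (273030912000000, 4, 11),
   (273030912000000, 6, -11),
   (273030912000000, 6, -7)]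

theorem numk_main (hL : LS W p n Q) (hN : NT W m) (h : (m, n, Q) ∈ numkL) : Fin8 n Q m := by
  simp only [numkL, List.mem_cons, Prod.mk.injEq, List.not_mem_nil, or_false] at h
  rcases h with ⟨rfl, rfl, rfl⟩ | ⟨rfl, rfl, rfl⟩ | ⟨rfl, rfl, rfl⟩ | ⟨rfl, rfl, rfl⟩ | ⟨rfl, rfl, rfl⟩ | ⟨rfl, rfl, rfl⟩ | ⟨rfl, rfl, rfl⟩ | ⟨rfl, rfl, rfl⟩ | ⟨rfl, rfl, rfl⟩ | ⟨rfl, rfl, rfl⟩ | ⟨rfl, rfl, rfl⟩ | ⟨rfl, rfl, rfl⟩ | ⟨rfl, rfl, rfl⟩ | ⟨rfl, rfl, rfl⟩ | ⟨rfl, rfl, rfl⟩ | ⟨rfl, rfl, rfl⟩ | ⟨rfl, rfl, rfl⟩ | ⟨rfl, rfl, rfl⟩ | ⟨rfl, rfl, rfl⟩ | ⟨rfl, rfl, rfl⟩ | ⟨rfl, rfl, rfl⟩ | ⟨rfl, rfl, rfl⟩ | ⟨rfl, rfl, rfl⟩ | ⟨rfl, rfl, rfl⟩ | ⟨rfl, rfl, rfl⟩ | ⟨rfl, rfl, rfl⟩ | ⟨rfl, rfl, rfl⟩ | ⟨rfl, rfl, rfl⟩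
  · exact absurd ⟨rfl, rfl⟩ hL.ne
  · exact absurd ⟨rfl, rfl⟩ hL.ne
  · simp [Fin8]
  · simp [Fin8]
  · simp [Fin8]
  · simp [Fin8]
  · simp [Fin8]
  · simp [Fin8]
  · simp [Fin8]
  · simp [Fin8]
  · exact (numk_G hL hN 61 13421 7 7 1 3 1 (by norm_num) (by norm_num) (by norm_num) (by norm_num)
      (by norm_num) (by decide +kernel)).elim
  · exact (numk_G hL hN 43 191 5 5 1 3 1 (by norm_num) (by norm_num) (by norm_num) (by norm_num)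
      (by norm_num) (by decide +kernel)).elim
  · exact (numk_G hL hN 13 31 11 7 1 11 1 (by norm_num) (by norm_num) (by norm_num) (by norm_num)
      (by norm_num) (by decide +kernel)).elim
  · exact (numk_C hL hN 43 3 3 (by norm_num) (by norm_num) (by decide +kernel)).elim
  · exact (numk_C hL hN 13 5 2 (by norm_num) (by norm_num) (by decide +kernel)).elim
  · exact (numk_C hL hN 11 3 3 (by norm_num) (by norm_num) (by decide +kernel)).elim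
  · exact (numk_C hL hN 7 5 2 (by norm_num) (by norm_num) (by decide +kernel)).elim
  · exact (numk_C hL hN 71 5 3 (by norm_num) (by norm_num) (by decide +kernel)).elim
  · exact (numk_G hL hN 7 11 17 5 1 17 1 (by norm_num) (by norm_num) (by norm_num) (by norm_num)
      (by norm_num) (by decide +kernel)).elim
  · exact (numk_C hL hN 71 3 6 (by norm_num) (by norm_num) (by decide +kernel)).elim
  · exact (numk_C hL hN 17 5 3 (by norm_num) (by norm_num) (by decide +kernel)).elim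
  · exact (numk_C hL hN 307 5 3 (by norm_num) (by norm_num) (by decide +kernel)).elim
  · exact (numk_C hL hN 71 3 7 (by norm_num) (by norm_num) (by decide +kernel)).elim
  · exact (numk_C hL hN 17 7 3 (by norm_num) (by norm_num) (by decide +kernel)).elim
  · exact (numk_C hL hN 71 3 9 (by norm_num) (by norm_num) (by decide +kernel)).elim
  · exact (numk_C hL hN 61 5 6 (by norm_num) (by norm_num) (by decide +kernel)).elim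
  · exact (numk_C hL hN 13421 3 6 (by norm_num) (by norm_num) (by decide +kernel)).elim
  · exact (numk_C hL hN 43 5 6 (by norm_num) (by norm_num) (by decide +kernel)).elim

end Cfsg.Agent.ISP
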