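import Mathlib
import Cfsg.Agent.ISP.NumK

/-!
The kernel enumeration for the arithmetic reduction.
-/

set_option autoImplicit false

namespace Cfsg.Agent.ISP

/-- The primes dividing sporadic orders. -/
def numtP : List ℕ := [2, 3, 5, 7, 11, 13, 17, 19, 23, 29, 31, 37, 41, 43, 47, 59, 61, 67, 71]

/-- Valuation with fuel. -/
def numtV (r : ℕ) : ℕ → ℕ → ℕ
  | 0, _ => 0
  | f + 1, x => if x % r = 0 then numtV r f (x / r) + 1 else 0

/-- `m (2 ^ a - 1)`. -/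
def numtX (m : ℕ) : ℕ := m * (2 ^ numtV 2 60 m - 1)

/-- The admissible prime powers. -/
def numtF (m e : ℕ) : List (ℕ × ℕ) :=
  (numtP.filter fun r => m % r = 0 ∧ r % e = 1).map fun r => (r, numtV r 60 (numtX m))

/-- Their product. -/
def numtM (l : List (ℕ × ℕ)) : ℕ := (l.map fun x => x.1 ^ x.2).prod

/-- The divisors. -/
def numtD : List (ℕ × ℕ) → List ℕ
  | [] => [1]
  | x :: l => (numtD l).flatMap fun d => (List.range (x.2 + 1)).map fun j => x.1 ^ j * d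

/-- Integer root by bits. -/
def numtR (x k : ℕ) : ℕ → ℕ → ℕ
  | 0, t => t
  | b + 1, t => if (t + 2 ^ b) ^ k ≤ x then numtR x k b (t + 2 ^ b) else numtR x k b t

/-- Cyclotomic values by recursion. -/
def numtPhi (q : ℕ) : ℕ → ℕ → ℕ
  | 0, _ => 1
  | f + 1, e => (q ^ e - 1) / ∏ d ∈ e.properDivisors, numtPhi q f d

/-- The order of `|Q|` belonging to the order `i` of `Q`. -/
def numtE (Q : ℤ) (i : ℕ) : ℕ :=
  if 0 < Q then i else if i % 4 = 0 then i else if i % 2 = 1 then 2 * i else i / 2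

/-- Valid indices. -/
def NumtVal (Q : ℤ) (n i : ℕ) : Prop :=
  (i = n ∧ (2 ∣ Q ∨ 2 * ((Int.gcd n (Q - 1) : ℕ) : ℤ) ∣ Q - 1)) ∨
  (i + 1 = n ∧ (2 ∣ Q ∨ ¬ 2 * ((Int.gcd n (Q - 1) : ℕ) : ℤ) ∣ Q - 1))

instance (Q : ℤ) (n i : ℕ) : Decidable (NumtVal Q n i) := by unfold NumtVal; infer_instance

/-- Tool A. -/
def NumtA (m : ℕ) (Q : ℤ) (n : ℕ) : Prop :=
  ∀ s ∈ numtP, s ∣ m → (s : ℤ) ∣ Q ∨ ∃ d < n + 1, 0 < d ∧ (s : ℤ) ∣ Q ^ d - 1

instance (m : ℕ) (Q : ℤ) (n : ℕ) : Decidable (NumtA m Q n) := by unfold NumtA; infer_instance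

/-- Tool B. -/
def NumtB (m : ℕ) (Q : ℤ) (n : ℕ) : Prop :=
  ∀ i ∈ [n - 1, n], NumtVal Q n i →
    numtPhi Q.natAbs (numtE Q i) (numtE Q i) ∣ numtE Q i * numtM (numtF m (numtE Q i))

instance (m : ℕ) (Q : ℤ) (n : ℕ) : Decidable (NumtB m Q n) := by unfold NumtB; infer_instance

/-- At most one small prime divides `q`. -/
def NumtPP (q : ℕ) : Prop := ∀ s ∈ numtP, ∀ t ∈ numtP, s ∣ q → t ∣ q → s = t

instance (q : ℕ) : Decidable (NumtPP q) := by unfold NumtPP; infer_instance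

/-- The test for a candidate. -/
def NumtG (m e q : ℕ) : Prop :=
  NumtPP q → ∀ Q ∈ [(q : ℤ), -q], ∀ i ∈ [e, 2 * e, e / 2], numtE Q i = e → ∀ n ∈ [i, i + 1], 4 ≤ n →
    NumtVal Q n i → NumtA m Q n → NumtB m Q n → (m, n, Q) ∈ numkL

instance (m e q : ℕ) : Decidable (NumtG m e q) := by unfold NumtG; infer_instance

/-- The test for a value. -/
def numtC (m e k x t : ℕ) : Bool :=
  decide (t ^ k ≤ x) && decide (x < (t + 1) ^ k) && [t - 1, t, t + 1].all fun q =>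
    decide (q < 2) || decide ((q ^ e - 1) % x ≠ 0) || decide (numtPhi q e e ≠ x) ||
      decide (NumtG m e q)

/-- The test for an order. -/
def numtT (m : ℕ) : Bool :=
  (List.range' 3 68).all fun e => ((List.range' 1 e).filter fun d => e % d = 0).all fun d =>
    (numtD (numtF m e)).all fun z => numtC m e e.totient (d * z) (numtR (d * z) e.totient 26 0)

theorem numt_tab : ∀ m ∈ spoL, numtT m = true := by decide +kernel

theorem numt_tab2 : ∀ m ∈ spoL, m ∣ numtP.prod ^ 60 ∧ Ex 2 (numtV 2 60 m) m ∧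
    ∀ r ∈ numtP, ¬ r ^ (numtV r 60 (numtX m) + 1) ∣ numtX m := by decide +kernel

theorem numt_prime : ∀ r ∈ numtP, r.Prime ∧ r ≤ 71 := by decide +kernel

end Cfsg.Agent.ISP
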