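import Mathlib
import Cfsg.Agent.ISP.NumT
import Cfsg.Agent.Misc.Zsigmondy

/-!
The arithmetic reduction: soundness of the enumeration.
-/

set_option autoImplicit false

namespace Cfsg.Agent.ISP

open Cfsg.Agent.Misc.Zsig Polynomial

theorem nume_prod {q e : ℕ} (hq : 1 < q) (he : 0 < e) : ∏ d ∈ e.divisors, phi d q = q ^ e - 1 := by
  have h := congrArg (eval (q : ℤ)) (prod_cyclotomic_eq_X_pow_sub_one he ℤ)
  rw [eval_prod] at h
  zify [Nat.one_le_pow e q (by omega)]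
  simp only [phi_cast _ hq]
  simpa using h

theorem nume_phi {q : ℕ} (hq : 1 < q) : ∀ f e, 0 < e → e ≤ f → numtPhi q f e = phi e q := by
  intro f
  induction f with
  | zero => intro e h1 h2; omega
  | succ f ih =>
    intro e h1 h2
    rw [numtPhi, Finset.prod_congr rfl fun d hd => ih d (Nat.pos_of_mem_properDivisors hd)
      (by have := (Nat.mem_properDivisors.1 hd).2; omega), ← nume_prod hq h1,
      ← Nat.insert_self_properDivisors h1.ne', Finset.prod_insert (by simp)]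
    exact Nat.mul_div_cancel _ (Finset.prod_pos fun d _ => phi_pos d hq)

theorem nume_mem_D : ∀ (l : List (ℕ × ℕ)), (∀ x ∈ l, x.1.Prime) → ∀ z, z ∣ numtM l → z ∈ numtD l
  | [], _, z, h => by simpa [numtM, numtD] using h
  | x :: l, hp, z, h => by
    rw [numtM, List.map_cons, List.prod_cons] at h
    obtain ⟨a, b, ha, hb, rfl⟩ := Nat.dvd_mul.1 h
    obtain ⟨j, hj, rfl⟩ := (Nat.dvd_prime_pow (hp x (by simp))).1 ha
    simp only [numtD, List.mem_flatMap, List.mem_map, List.mem_range]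
    exact ⟨b, nume_mem_D l (fun y hy => hp y (by simp [hy])) b hb, j, by omega, rfl⟩

theorem nume_memP {m r : ℕ} (hm : Spo m) (hr : r.Prime) (h : r ∣ m) : r ∈ numtP := by
  obtain ⟨s, h1, h2⟩ := (Prime.dvd_prod_iff hr.prime).1
    (hr.dvd_of_dvd_pow (h.trans (numt_tab2 m hm).1))
  rwa [(Nat.prime_dvd_prime_iff_eq hr (numt_prime s h1).1).1 h2]

theorem nume_od {Q : ℤ} {i r : ℕ} (hq : 1 < Q.natAbs) (hi : 3 ≤ i)
    (h : IsPPD Q.natAbs (numtE Q i) r) : Od Q r i := by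
  have := Fact.mk h.1
  have he : 3 ≤ numtE Q i := by unfold numtE; split_ifs <;> omega
  have hr := h.lt (by omega) hq
  have hx : ∀ j, ((Q.natAbs : ℕ) : ZMod r) ^ j = 1 ↔ numtE Q i ∣ j := fun j => by
    rw [← orderOf_dvd_iff_pow_eq_one, (orderOf_eq_iff (n := numtE Q i) (by omega)).2
      ⟨(dvd_pow_sub_one_iff hq).1 h.2.1, fun k h1 h2 e =>
        h.2.2 k h2 h1 ((dvd_pow_sub_one_iff hq).2 e)⟩]
  intro j
  rw [← ZMod.intCast_zmod_eq_zero_iff_dvd]
  push_cast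
  rw [sub_eq_zero]
  generalize hxx : ((Q.natAbs : ℕ) : ZMod r) = x at hx
  unfold numtE at hx he hr
  by_cases h0 : 0 < Q
  · rw [if_pos h0] at hx
    rw [← hx, ← hxx, ← Int.cast_natCast, Int.natAbs_of_nonneg h0.le]
  rw [if_neg h0] at hx he hr
  have hQ : (Q : ZMod r) = -x := by
    rw [← hxx, ← Int.cast_natCast, ← Int.cast_neg, Int.ofNat_natAbs_of_nonpos (by omega), neg_neg]
  have hne : (1 : ZMod r) ≠ -1 := by
    intro e
    have : ((2 : ℕ) : ZMod r) = 0 := by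
      push_cast
      linear_combination e
    have := Nat.le_of_dvd two_pos ((ZMod.natCast_eq_zero_iff _ _).1 this)
    omega
  rw [hQ]
  rcases Nat.even_or_odd j with hj | hj
  · rw [hj.neg_pow, hx]
    obtain ⟨u, rfl⟩ := hj
    split_ifs with h4 h2
    · rfl
    · rw [← two_mul, Nat.mul_dvd_mul_iff_left two_pos]
      exact ⟨fun h => h.mul_left _, fun h => (Nat.coprime_two_right.2
        (Nat.odd_iff.2 h2)).dvd_of_dvd_mul_left h⟩
    · obtain ⟨w, rfl⟩ : ∃ w, i = 2 * w := ⟨i / 2, by omega⟩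
      rw [← two_mul, Nat.mul_dvd_mul_iff_left two_pos, Nat.mul_div_cancel_left _ two_pos]
      exact ⟨fun h => (Nat.coprime_two_right.2 (Nat.odd_iff.2 (by omega))).dvd_of_dvd_mul_left h,
        fun h => h.mul_left _⟩
  · rw [hj.neg_pow, neg_eq_iff_eq_neg]
    have h1 : x ^ j = -1 → _ ∣ 2 * j := fun e => (hx _).1 (by rw [mul_comm, pow_mul, e]; simp)
    have h3 := Nat.odd_iff.1 hj
    split_ifs at hx h1 he hr with h4 h2
    · refine iff_of_false (fun e => ?_) fun e => ?_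
      · have := (Nat.dvd_of_mod_eq_zero h4).trans (h1 e); omega
      · have := (Nat.dvd_of_mod_eq_zero h4).trans e; omega
    · refine ⟨fun e => Nat.dvd_of_mul_dvd_mul_left two_pos (h1 e), fun e => ?_⟩
      have h5 : x ^ j * x ^ j = 1 := by
        rw [← pow_add, hx, ← two_mul]; exact Nat.mul_dvd_mul_left _ e
      refine (mul_self_eq_one_iff.1 h5).resolve_left fun e' => ?_
      have := (dvd_mul_right 2 i).trans ((hx j).1 e'); omega
    · refine iff_of_false (fun e => hne ?_) fun e => ?_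
      · rw [← e, eq_comm, hx]
        exact (Nat.coprime_two_right.2 (Nat.odd_iff.2 (by omega))).dvd_of_dvd_mul_left (h1 e)
      · have := (show 2 ∣ i by omega).trans e; omega

theorem nume_gs (Q : ℤ) (d : ℕ) : ∃ g : ℤ, g * (Q - 1) = Q ^ d - 1 ∧ Q - 1 ∣ g - d := by
  induction d with
  | zero => exact ⟨0, by simp, by simp⟩
  | succ d ih =>
    obtain ⟨g, h1, h2⟩ := ih
    refine ⟨g + Q ^ d, by rw [add_mul, h1]; ring, ?_⟩
    have := dvd_add h2 (sub_dvd_pow_sub_pow Q 1 d)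
    rw [show g + Q ^ d - ((d + 1 : ℕ) : ℤ) = g - d + (Q ^ d - 1 ^ d) by push_cast; ring]
    exact this

variable {W : ℕ → Prop} {p n m : ℕ} {Q : ℤ}

theorem LS.nume_q (hL : LS W p n Q) : 1 < Q.natAbs := by
  obtain ⟨a, ha, e⟩ := hL.hQ
  rw [e]
  exact Nat.one_lt_pow ha.ne' hL.pp.one_lt

theorem nume_val (Q : ℤ) {n : ℕ} (hn : 0 < n) : ∃ i, NumtVal Q n i := by
  by_cases h : 2 * ((Int.gcd n (Q - 1) : ℕ) : ℤ) ∣ Q - 1
  · exact ⟨n, Or.inl ⟨rfl, Or.inr h⟩⟩
  · exact ⟨n - 1, Or.inr ⟨by omega, Or.inr h⟩⟩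

theorem LS.nume_nadj (hL : LS W p n Q) {i r : ℕ} (hv : NumtVal Q n i) (hr : r.Prime)
    (h : Od Q r i) : r ≠ 2 ∧ ¬ W (2 * r) := by
  have hn := hL.hn
  have hi : 3 ≤ i ∧ i ≤ n ∧ n ≤ i + 1 := by rcases hv with h | h <;> omega
  have h1 : ¬ (r : ℤ) ∣ Q - 1 := by simpa using (h 1).not.2 (by simp; omega)
  have hrp : r ≠ p := by rintro rfl; exact hL.numk_nd (by omega) ((h i).2 dvd_rfl)
  have hq := hL.nume_q
  by_cases h2 : (2 : ℤ) ∣ Q
  · obtain rfl := hL.numk_eq Nat.prime_two h2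
    refine ⟨hrp, fun hw => ?_⟩
    obtain ⟨d, e1, e2, e3⟩ := hL.adjp r hr hrp h1 (mul_comm 2 r ▸ hw)
    have := Nat.le_of_dvd e1 ((h d).1 e3)
    omega
  refine ⟨by rintro rfl; exact h1 (by push_cast; omega), fun hw => ?_⟩
  have g0 : 0 < Int.gcd n (Q - 1) := Int.gcd_pos_of_ne_zero_left _ (by omega)
  have g1 : ((Int.gcd n (Q - 1) : ℕ) : ℤ) ∣ n := Int.gcd_dvd_left _ _
  have g2 : ((Int.gcd n (Q - 1) : ℕ) : ℤ) ∣ Q - 1 := Int.gcd_dvd_right _ _
  rcases hv with ⟨rfl, h3⟩ | ⟨rfl, h3⟩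
  · have h3 := h3.resolve_left h2
    obtain ⟨g, e1, e2⟩ := nume_gs Q i
    have h4 := hL.top r _ hr h (dvd_mul_left _ _) hw
    rw [← e1, mul_dvd_mul_iff_right (by omega)] at h4
    have h5 : 2 * ((Int.gcd i (Q - 1) : ℕ) : ℤ) ∣ g :=
      Dvd.dvd.trans ⟨r, by push_cast; ring⟩ h4
    have h6 := Int.dvd_coe_gcd ((dvd_sub_right h5).1 (h3.trans e2)) h3
    have := Int.le_of_dvd (by exact_mod_cast g0) h6
    omega
  · have h3 := h3.resolve_left h2
    obtain ⟨g, e1, e2⟩ := nume_gs Q i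
    have h4 := hL.sub r _ hr (by simpa using h) (dvd_mul_left _ _) hw
    rw [Nat.add_sub_cancel, ← e1] at h4
    generalize ((Int.gcd ((i + 1 : ℕ) : ℤ) (Q - 1) : ℕ) : ℤ) = c at *
    have g0' : c ≠ 0 := by rintro rfl; omega
    obtain ⟨u, hu⟩ := g2
    have u2 : ¬ 2 ∣ u := fun e => h3 (by rw [hu, mul_comm 2]; exact mul_dvd_mul_left _ e)
    have c2 : 2 ∣ c := (Int.prime_two.dvd_or_dvd (hu ▸ (by omega : 2 ∣ Q - 1))).resolve_right u2
    rw [hu, mul_comm c u, ← mul_assoc, mul_dvd_mul_iff_right g0'] at h4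
    have g3 : 2 ∣ g := (Int.prime_two.dvd_or_dvd
      (Dvd.dvd.trans ⟨r, by push_cast; ring⟩ h4)).resolve_right u2
    have g4 := c2.trans g1
    have g5 : (2 : ℤ) ∣ g - i := (by omega : 2 ∣ Q - 1).trans e2
    push_cast at g4
    omega

theorem LS.nume_pow (hL : LS W p n Q) {i r k : ℕ} (hv : NumtVal Q n i) (hr : r.Prime)
    (h : Od Q r i) (hk : r ^ k ∣ Q.natAbs ^ numtE Q i - 1) : W (r ^ k) := by
  have hn := hL.hn
  have hi : 3 ≤ i ∧ i ≤ n ∧ n ≤ i + 1 := by rcases hv with h | h <;> omega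
  have h1 : ¬ (r : ℤ) ∣ Q - 1 := by simpa using (h 1).not.2 (by simp; omega)
  have h2 := (hL.nume_nadj hv hr h).1
  have hq := hL.nume_q
  refine hL.low _ i (by omega) hi.2.1 ?_ (Nat.Coprime.pow_left _
    (hr.coprime_iff_not_dvd.2 fun e => h1 (Int.natCast_dvd.2 e)))
  obtain ⟨u, hu⟩ : numtE Q i ∣ 2 * i := by
    unfold numtE; split_ifs
    · exact dvd_mul_left _ _
    · exact dvd_mul_left _ _
    · exact dvd_rfl
    · exact ⟨4, by omega⟩
  have h3 : ((r ^ k : ℕ) : ℤ) ∣ (Q ^ i - 1) * (Q ^ i + 1) := by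
    have h4 := Int.natCast_dvd_natCast.2 (hk.trans (Nat.pow_sub_one_dvd_pow_sub_one _ ⟨u, hu⟩))
    rw [Nat.cast_sub (Nat.one_le_pow _ _ (by omega)), Nat.cast_pow Q.natAbs, pow_mul,
      Int.natAbs_sq] at h4
    rw [show (Q ^ i - 1) * (Q ^ i + 1) = (Q ^ 2) ^ i - ((1 : ℕ) : ℤ) by push_cast; ring]
    exact h4
  have h5 : ¬ (r : ℤ) ∣ Q ^ i + 1 := fun e => h2 ((Nat.prime_dvd_prime_iff_eq hr Nat.prime_two).1
    (Int.natCast_dvd_natCast.1 (by simpa using dvd_sub e ((h i).2 dvd_rfl))))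
  push_cast at h3 ⊢
  exact (((Nat.prime_iff_prime_int.1 hr).coprime_iff_not_dvd.2 h5).pow_left).dvd_of_dvd_mul_right h3

theorem nume_e {Q : ℤ} {i : ℕ} (hi : 3 ≤ i) : 3 ≤ numtE Q i := by
  unfold numtE; split_ifs <;> omega

theorem nume_ppd (hL : LS W p n Q) (hm : Spo m) (hN : NT W m) {i r : ℕ} (hv : NumtVal Q n i)
    (h : IsPPD Q.natAbs (numtE Q i) r) : r ∣ m ∧ r ∈ numtP := by
  have hn := hL.hn
  have hi : 3 ≤ i := by rcases hv with h | h <;> omega
  have ho := nume_od hL.nume_q hi h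
  obtain ⟨h1, h2⟩ := hL.nume_nadj hv h.1 ho
  have h3 := hN.toolB r h.1 h1 (by simpa using hL.nume_pow (k := 1) hv h.1 ho (by simpa using h.2.1)) h2
  exact ⟨h3, nume_memP hm h.1 h3⟩

theorem nume_dvd (hL : LS W p n Q) (hm : Spo m) (hN : NT W m) {i : ℕ} (hv : NumtVal Q n i) :
    phi (numtE Q i) Q.natAbs ∣ numtE Q i * numtM (numtF m (numtE Q i)) := by
  have hn := hL.hn
  have hi : 3 ≤ i := by rcases hv with h | h <;> omega
  have he := nume_e (Q := Q) hi
  have hq := hL.nume_q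
  rw [Nat.dvd_iff_prime_pow_dvd_dvd]
  intro r k hr hk
  rcases Nat.eq_zero_or_pos k with rfl | k0
  · simp
  by_cases hre : r ∣ numtE Q i
  · obtain rfl : k = 1 := by
      by_contra hc
      exact not_sq_dvd_phi (by omega) hq hr hre ((pow_dvd_pow _ (by omega)).trans hk)
    simpa using hre.mul_right _
  have h := isPPD_of_not_dvd (by omega) hq hr ((dvd_pow_self _ k0.ne').trans hk) hre
  obtain ⟨h1, h2⟩ := nume_ppd hL hm hN hv h
  have ho := nume_od hq hi h
  obtain ⟨h3, h4⟩ := hL.nume_nadj hv hr ho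
  obtain ⟨-, t1, t2⟩ := numt_tab2 m hm
  have h5 := hN.toolB' r k _ hr h3 (hL.nume_pow hv hr ho (hk.trans (phi_dvd hq))) h4 t1
  have h6 : k ≤ numtV r 60 (numtX m) := by
    by_contra hc
    exact t2 r h2 ((pow_dvd_pow _ (by omega)).trans h5)
  refine ((pow_dvd_pow r h6).trans (List.dvd_prod ?_)).mul_left _
  refine List.mem_map.2 ⟨(r, numtV r 60 (numtX m)), List.mem_map.2 ⟨r, List.mem_filter.2 ⟨h2, ?_⟩, rfl⟩, rfl⟩
  obtain ⟨u, hu⟩ := h.dvd_sub_one (by omega) hq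
  have := hr.two_le
  rw [decide_eq_true_eq, show r = 1 + numtE Q i * u by omega, Nat.add_mul_mod_self_left,
    Nat.mod_eq_of_lt (show 1 < numtE Q i by omega), show 1 + numtE Q i * u = r by omega]
  exact ⟨Nat.mod_eq_zero_of_dvd h1, rfl⟩

theorem nume_main (hL : LS W p n Q) (hm : Spo m) (hN : NT W m) : (m, n, Q) ∈ numkL := by
  have hn := hL.hn
  have hq := hL.nume_q
  obtain ⟨i, hv⟩ := nume_val Q (show 0 < n by omega)
  have hi : 3 ≤ i ∧ (n = i ∨ n = i + 1) := by rcases hv with h | h <;> omega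
  have he := nume_e (Q := Q) hi.1
  have he' : numtE Q i ≤ 70 := by
    by_contra hc
    obtain ⟨r, hr⟩ := zsigmondy hq (show 1 < numtE Q i by omega) (by omega) (by omega)
    have := (numt_prime r (nume_ppd hL hm hN hv hr).2).2
    have := hr.lt (by omega) hq
    omega
  obtain ⟨d, z, hd, hz, hx⟩ := Nat.dvd_mul.1 (nume_dvd hL hm hN hv)
  have t := numt_tab m hm
  simp only [numtT, List.all_eq_true] at t
  have t1 := t (numtE Q i) (by simp only [List.mem_range'_1]; omega) d (by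
    have := Nat.le_of_dvd (by omega) hd
    have := Nat.pos_of_dvd_of_pos hd (by omega)
    simp only [List.mem_filter, List.mem_range'_1, decide_eq_true_eq]
    exact ⟨by omega, Nat.mod_eq_zero_of_dvd hd⟩) z (nume_mem_D _ (fun x hx => by
      obtain ⟨r, h1, rfl⟩ := List.mem_map.1 hx
      exact (numt_prime r (List.mem_filter.1 h1).1).1) z hz)
  rw [hx] at t1
  generalize numtR _ _ _ _ = t at t1
  simp only [numtC, Bool.and_eq_true, decide_eq_true_eq, List.all_eq_true, Bool.or_eq_true] at t1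
  obtain ⟨⟨a1, a2⟩, a3⟩ := t1
  have b1 := lt_of_pow_lt_pow_left₀ _ (by omega) ((lt_phi (show 1 < numtE Q i by omega) hq).trans a2)
  have b2 := (Nat.pow_le_pow_iff_left (Nat.totient_pos.2 (show 0 < numtE Q i by omega)).ne').1
    (a1.trans (phi_le _ hq))
  have a4 := a3 Q.natAbs (by simp only [List.mem_cons]; omega)
  have a5 : NumtG m (numtE Q i) Q.natAbs := a4.resolve_left fun h => by
    rcases h with (h | h) | h
    · omega
    · exact h (Nat.mod_eq_zero_of_dvd (phi_dvd hq))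
    · exact h (nume_phi hq _ _ (by omega) le_rfl)
  refine a5 (fun s hs t ht e1 e2 => ?_) Q (by simp only [List.mem_cons]; omega) i ?_ rfl n
    (by simp only [List.mem_cons]; omega) hn hv (fun s hs e => ?_) fun j _ hj => ?_
  · rw [hL.numk_eq (numt_prime s hs).1 (Int.natCast_dvd.2 e1),
      hL.numk_eq (numt_prime t ht).1 (Int.natCast_dvd.2 e2)]
  · simp only [List.mem_cons, numtE]
    split_ifs <;> omega
  · by_cases hs' : s = p
    · exact Or.inl (hs' ▸ hL.numk_dvd)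
    · obtain ⟨d, e1, e2, e3⟩ := hL.pow s 1 (numt_prime s hs).1 hs'
        (by simpa using hN.toolA s (numt_prime s hs).1 e)
      exact Or.inr ⟨d, by omega, e1, by simpa using e3⟩
  · have : 3 ≤ j := by rcases hj with h | h <;> omega
    rw [nume_phi hq _ _ (by have := nume_e (Q := Q) this; omega) le_rfl]
    exact nume_dvd hL hm hN hj

theorem nume_nonadj (hL : LS W p n Q) : ∃ r : ℕ, r.Prime ∧ r ≠ 2 ∧ W r ∧ ¬ W (2 * r) := by
  have hn := hL.hn
  have hq := hL.nume_q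
  obtain ⟨i, hv, h6⟩ : ∃ i, NumtVal Q n i ∧ ¬ (Q.natAbs = 2 ∧ numtE Q i = 6) := by
    by_cases h2 : Q.natAbs = 2
    · have h3 : (2 : ℤ) ∣ Q := by omega
      by_cases h4 : numtE Q n = 6
      · refine ⟨n - 1, Or.inr ⟨by omega, Or.inl h3⟩, fun h => ?_⟩
        have h5 := h.2
        unfold numtE at h4 h5
        split_ifs at h4 h5 <;> omega
      · exact ⟨n, Or.inl ⟨rfl, Or.inl h3⟩, fun h => h4 h.2⟩
    · obtain ⟨i, hv⟩ := nume_val Q (show 0 < n by omega)
      exact ⟨i, hv, fun h => h2 h.1⟩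
  have hi : 3 ≤ i := by rcases hv with h | h <;> omega
  have he := nume_e (Q := Q) hi
  obtain ⟨r, hr⟩ := zsigmondy hq (show 1 < numtE Q i by omega) h6 (by omega)
  have ho := nume_od hq hi hr
  obtain ⟨h1, h2⟩ := hL.nume_nadj hv hr.1 ho
  exact ⟨r, hr.1, h1, by simpa using hL.nume_pow (k := 1) hv hr.1 ho (by simpa using hr.2.1), h2⟩

end Cfsg.Agent.ISP
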