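import Cfsg.Agent.Chev.Tits1

/-!
# The Tits group has an element of order `16`
-/

set_option autoImplicit false

namespace Cfsg.Agent.ISP

open Cfsg.Agent.Comp Cfsg.Agent.Chev Cfsg.Agent.Chev.TitsM

theorem tits16 : ∃ g : Cfsg.Lie.TitsGroup, orderOf g = 16 := by
  have := Fact.mk Nat.prime_two
  refine ⟨Tits.equivT.symm ⟨wp ns [8, 8, 10], mem_of_wordIn (by decide +kernel)⟩, ?_⟩
  rw [MulEquiv.orderOf_eq, ← Subgroup.orderOf_coe]
  refine orderOf_eq_prime_pow (p := 2) (n := 3) (fun e => ?_) ?_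
  · refine ne_of_movesW ctx (u := powW [8, 8, 10] 8) (p := 0) (by decide +kernel) (by norm_num) ?_
    rw [wp_powW, show wp ns [8, 8, 10] ^ 8 = 1 from e]
    rfl
  · exact (wp_powW ns _ 16).symm.trans (wp_eq_of_eqW ctx (v := []) (by decide +kernel))

end Cfsg.Agent.ISP
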